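import Mathlib
import Groth.Agent.RegLocal.Consequences
import Groth.Prelude.Def_EGA4b

set_option autoImplicit false

/-!
The regular locus: localization, polynomial rings, etale and smooth algebras, descent.
-/

universe u

namespace Groth.Agent.RegLocLib

open IsLocalRing

variable {R S : Type u} [CommRing R] [CommRing S] [Algebra R S]

theorem mem_regLocus_iff_of_isLocalization (M : Submonoid R) [IsLocalization M S]
    (Q : PrimeSpectrum S) :
    Q ∈ EGA4.regLocus S ↔ PrimeSpectrum.comap (algebraMap R S) Q ∈ EGA4.regLocus R := by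
  show IsRegularLocalRing (Localization.AtPrime Q.asIdeal) ↔
    IsRegularLocalRing (Localization.AtPrime (Q.asIdeal.comap (algebraMap R S)))
  haveI : IsLocalization.AtPrime (Localization.AtPrime Q.asIdeal)
      (Q.asIdeal.comap (algebraMap R S)) :=
    IsLocalization.isLocalization_isLocalization_atPrime_isLocalization M
      (Localization.AtPrime Q.asIdeal) Q.asIdeal
  let e := (IsLocalization.algEquiv (Q.asIdeal.comap (algebraMap R S)).primeCompl
    (Localization.AtPrime Q.asIdeal)
    (Localization.AtPrime (Q.asIdeal.comap (algebraMap R S)))).toRingEquiv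
  exact ⟨fun h => @IsRegularLocalRing.of_ringEquiv _ _ h _ _ e,
    fun h => @IsRegularLocalRing.of_ringEquiv _ _ h _ _ e.symm⟩

theorem isRegularRing_of_isRegularLocalRing (A : Type u) [CommRing A] [IsRegularLocalRing A] :
    IsRegularRing A :=
  isRegularRing_iff.2 fun p _ => RegLocal.isRegularLocalRing_localization A p

theorem mem_regLocus_of_le {p q : PrimeSpectrum R} (h : q.asIdeal ≤ p.asIdeal)
    (hp : p ∈ EGA4.regLocus R) : q ∈ EGA4.regLocus R := by
  haveI : IsRegularLocalRing (Localization.AtPrime p.asIdeal) := hp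
  haveI := isRegularRing_of_isRegularLocalRing (Localization.AtPrime p.asIdeal)
  have hd : Disjoint (p.asIdeal.primeCompl : Set R) (q.asIdeal : Set R) :=
    Set.disjoint_left.2 fun x hx hxq => hx (h hxq)
  let Q : PrimeSpectrum (Localization.AtPrime p.asIdeal) :=
    ⟨q.asIdeal.map (algebraMap R _), IsLocalization.isPrime_of_isPrime_disjoint p.asIdeal.primeCompl
      (Localization.AtPrime p.asIdeal) q.asIdeal q.isPrime hd⟩
  have hQ : PrimeSpectrum.comap (algebraMap R (Localization.AtPrime p.asIdeal)) Q = q :=
    PrimeSpectrum.ext (IsLocalization.under_map_of_isPrime_disjoint p.asIdeal.primeCompl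
      (Localization.AtPrime p.asIdeal) q.isPrime hd)
  rw [← hQ, ← mem_regLocus_iff_of_isLocalization p.asIdeal.primeCompl Q]
  haveI : Q.asIdeal.IsPrime := Q.isPrime
  exact IsRegularRing.isRegularLocalRing_localization Q.asIdeal

theorem regLocus_eq_univ_of_isRegularRing (A : Type u) [CommRing A] [IsRegularRing A] :
    EGA4.regLocus A = Set.univ :=
  Set.eq_univ_of_forall fun p => IsRegularRing.isRegularLocalRing_localization p.asIdeal

theorem mem_regLocus_mvPolynomial {A : Type u} [CommRing A] (n : ℕ)
    (Q : PrimeSpectrum (MvPolynomial (Fin n) A))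
    (h : PrimeSpectrum.comap MvPolynomial.C Q ∈ EGA4.regLocus A) :
    Q ∈ EGA4.regLocus (MvPolynomial (Fin n) A) := by
  let p := Q.asIdeal.comap MvPolynomial.C
  let L := Localization.AtPrime p
  haveI : IsRegularLocalRing L := h
  haveI := isRegularRing_of_isRegularLocalRing L
  let M : Submonoid (MvPolynomial (Fin n) A) := p.primeCompl.map (MvPolynomial.C (σ := Fin n))
  letI : Algebra (MvPolynomial (Fin n) A) (MvPolynomial (Fin n) L) :=
    (MvPolynomial.map (algebraMap A L)).toAlgebra
  haveI : IsLocalization M (MvPolynomial (Fin n) L) := MvPolynomial.isLocalization p.primeCompl L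
  have hd : Disjoint (M : Set (MvPolynomial (Fin n) A)) (Q.asIdeal : Set _) :=
    Set.disjoint_left.2 fun x hx hxQ => by
      obtain ⟨a, ha, rfl⟩ := hx
      exact ha hxQ
  let Q' : PrimeSpectrum (MvPolynomial (Fin n) L) :=
    ⟨Q.asIdeal.map (algebraMap _ _), IsLocalization.isPrime_of_isPrime_disjoint M _ _ Q.isPrime hd⟩
  have hQ : PrimeSpectrum.comap (algebraMap (MvPolynomial (Fin n) A) (MvPolynomial (Fin n) L)) Q' = Q :=
    PrimeSpectrum.ext (IsLocalization.under_map_of_isPrime_disjoint M _ Q.isPrime hd)
  rw [← hQ, ← mem_regLocus_iff_of_isLocalization M Q']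
  haveI : Q'.asIdeal.IsPrime := Q'.isPrime
  exact IsRegularRing.isRegularLocalRing_localization Q'.asIdeal

theorem spanFinrank_map_le {A B : Type u} [CommRing A] [CommRing B] (f : A →+* B) (J : Ideal A)
    (hJ : J.FG) : (J.map f).spanFinrank ≤ J.spanFinrank := by
  have hfin := Submodule.FG.finite_generators hJ
  rw [← Submodule.FG.generators_ncard hJ]
  conv_lhs => rw [← Submodule.span_generators J, ← Ideal.span, Ideal.map_span]
  exact (Submodule.spanFinrank_span_le_ncard_of_finite (hfin.image _)).trans
    (Set.ncard_image_le hfin)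

theorem height_comap_le [Module.Flat R S] (q : Ideal S) [q.IsPrime] :
    (q.comap (algebraMap R S)).height ≤ q.height := by
  let p := q.comap (algebraMap R S)
  rw [(⟨p, inferInstance⟩ : PrimeSpectrum R).height_eq_orderHeight,
    (⟨q, inferInstance⟩ : PrimeSpectrum S).height_eq_orderHeight]
  refine Order.height_le fun l hl => ?_
  haveI : q.LiesOver l.last.asIdeal := ⟨by rw [hl]⟩
  obtain ⟨L, hLlen, hLlast, -⟩ := Ideal.exists_ltSeries_of_hasGoingDown (R := R) (S := S) l q
  rw [← hLlen]
  exact Order.length_le_height hLlast.le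

theorem mem_regLocus_of_etale [IsNoetherianRing R] [Algebra.Etale R S] (q : PrimeSpectrum S)
    (h : PrimeSpectrum.comap (algebraMap R S) q ∈ EGA4.regLocus R) : q ∈ EGA4.regLocus S := by
  set p := q.asIdeal.comap (algebraMap R S) with hp
  haveI : q.asIdeal.LiesOver p := ⟨rfl⟩
  haveI : IsRegularLocalRing (Localization.AtPrime p) := h
  haveI : IsNoetherianRing S := Algebra.FiniteType.isNoetherianRing R S
  haveI : IsNoetherianRing (Localization.AtPrime q.asIdeal) :=
    IsLocalization.isNoetherianRing q.asIdeal.primeCompl _ inferInstance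
  letI := Localization.AtPrime.algebraOfLiesOver p q.asIdeal
  have hmap := ((Algebra.isUnramifiedAt_iff_map_eq R p q.asIdeal).1 inferInstance).2
  rw [IsScalarTower.algebraMap_eq R (Localization.AtPrime p) (Localization.AtPrime q.asIdeal),
    ← Ideal.map_map, Localization.AtPrime.map_eq_maximalIdeal] at hmap
  refine IsRegularLocalRing.of_spanFinrank_maximalIdeal_le _ ?_
  rw [← hmap]
  calc (((maximalIdeal (Localization.AtPrime p)).map _).spanFinrank : WithBot ℕ∞)
      ≤ ((maximalIdeal (Localization.AtPrime p)).spanFinrank : WithBot ℕ∞) := by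
        exact_mod_cast spanFinrank_map_le _ _ (IsNoetherian.noetherian _)
    _ = ringKrullDim (Localization.AtPrime p) := IsRegularLocalRing.spanFinrank_maximalIdeal
    _ ≤ _ := by
      rw [IsLocalization.AtPrime.ringKrullDim_eq_height p,
        IsLocalization.AtPrime.ringKrullDim_eq_height q.asIdeal]
      exact WithBot.coe_le_coe.2 (height_comap_le q.asIdeal)

/-- Smooth algebras over regular bases are regular. -/
theorem mem_regLocus_of_smoothAt [IsNoetherianRing R] [Algebra.FiniteType R S]
    (q : PrimeSpectrum S) [Algebra.IsSmoothAt R q.asIdeal]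
    (h : PrimeSpectrum.comap (algebraMap R S) q ∈ EGA4.regLocus R) : q ∈ EGA4.regLocus S := by
  haveI : Algebra.FinitePresentation R S := Algebra.FinitePresentation.of_finiteType.1 inferInstance
  obtain ⟨g, hg, hst⟩ := Algebra.IsSmoothAt.exists_notMem_isStandardSmooth (R := R) q.asIdeal
  let T := Localization.Away g
  have hd : Disjoint (Submonoid.powers g : Set S) (q.asIdeal : Set S) :=
    Set.disjoint_left.2 fun x hx hxq => by
      obtain ⟨n, rfl⟩ := hx
      exact hg (q.isPrime.mem_of_pow_mem n hxq)
  let Q : PrimeSpectrum T :=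
    ⟨q.asIdeal.map (algebraMap S T),
      IsLocalization.isPrime_of_isPrime_disjoint (Submonoid.powers g) T _ q.isPrime hd⟩
  have hQ : PrimeSpectrum.comap (algebraMap S T) Q = q :=
    PrimeSpectrum.ext (IsLocalization.under_map_of_isPrime_disjoint (Submonoid.powers g) T q.isPrime hd)
  rw [← hQ, ← mem_regLocus_iff_of_isLocalization (Submonoid.powers g) Q]
  obtain ⟨n, φ, hφ, het⟩ := RingHom.IsStandardSmooth.exists_etale_mvPolynomial
    (RingHom.isStandardSmooth_algebraMap.2 hst)
  algebraize [φ]
  refine mem_regLocus_of_etale (R := MvPolynomial (Fin n) R) Q (mem_regLocus_mvPolynomial n _ ?_)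
  have : PrimeSpectrum.comap MvPolynomial.C (PrimeSpectrum.comap φ Q) =
      PrimeSpectrum.comap (algebraMap R S) q := by
    rw [← hQ, ← PrimeSpectrum.comap_comp_apply, ← PrimeSpectrum.comap_comp_apply, hφ,
      ← IsScalarTower.algebraMap_eq]
  rw [show algebraMap (MvPolynomial (Fin n) R) T = φ from rfl, this]
  exact h

/-- Descent of regularity along flat maps. -/
theorem mem_regLocus_of_flat [IsNoetherianRing R] [Module.Flat R S] (q : PrimeSpectrum S)
    (h : q ∈ EGA4.regLocus S) : PrimeSpectrum.comap (algebraMap R S) q ∈ EGA4.regLocus R := by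
  set p := q.asIdeal.comap (algebraMap R S) with hp
  haveI : q.asIdeal.LiesOver p := ⟨rfl⟩
  haveI : IsRegularLocalRing (Localization.AtPrime q.asIdeal) := h
  letI := Localization.AtPrime.algebraOfLiesOver p q.asIdeal
  haveI : Module.Flat R (Localization.AtPrime q.asIdeal) := Module.Flat.trans R S _
  haveI : Module.Flat (Localization.AtPrime p) (Localization.AtPrime q.asIdeal) :=
    (Module.flat_iff_of_isLocalization (Localization.AtPrime p) p.primeCompl _).2 inferInstance
  haveI : IsNoetherianRing (Localization.AtPrime p) :=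
    IsLocalization.isNoetherianRing p.primeCompl _ inferInstance
  haveI : IsLocalHom (algebraMap (Localization.AtPrime p) (Localization.AtPrime q.asIdeal)) := by
    rw [Localization.AtPrime.IsLiesOverAlgebra.algebraMap_eq]
    exact Localization.isLocalHom_localRingHom _ _ _ _
  exact RegLocal.isRegularLocalRing_of_flat (Localization.AtPrime p) (Localization.AtPrime q.asIdeal)

end Groth.Agent.RegLocLib
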