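import Mathlib

/-!
Points of locally Noetherian schemes that are locally closed.
-/

set_option autoImplicit false

universe u

namespace Groth.Agent.RegLocLib

open AlgebraicGeometry TopologicalSpace Topology

theorem height_le_one_of_forall_mem {D : Type u} [CommRing D] [IsDomain D] [IsNoetherianRing D]
    {f : D} (hf : f ≠ 0) (h : ∀ q : Ideal D, q.IsPrime → q ≠ ⊥ → f ∈ q) (r : Ideal D) [hr : r.IsPrime] :
    r.height ≤ 1 := by
  classical
  by_contra hcon
  have hF := (Ideal.span {f}).finite_minimalPrimes_of_isNoetherianRing D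
  have hsub : (r : Set D) ⊆ ⋃ q ∈ (hF.toFinset : Set (Ideal D)), (q : Set D) := fun a ha => by
    rw [Set.mem_iUnion₂]
    by_cases ha0 : a = 0
    · obtain ⟨q, hq, -⟩ := Ideal.exists_minimalPrimes_le (I := Ideal.span {f}) (J := r)
        ((Ideal.span_singleton_le_iff_mem _).2 (h r hr fun e => hcon (by rw [e, Ideal.height_bot]; exact zero_le_one)))
      exact ⟨q, hF.mem_toFinset.2 hq, by rw [ha0]; exact q.zero_mem⟩
    obtain ⟨q, hq, hqr⟩ := Ideal.exists_minimalPrimes_le (I := Ideal.span {a}) (J := r)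
      ((Ideal.span_singleton_le_iff_mem _).2 ha)
    haveI : q.IsPrime := hq.1.1
    have haq : a ∈ q := hq.1.2 (Ideal.mem_span_singleton_self a)
    have hq0 : q ≠ ⊥ := fun e => ha0 (by simpa [e] using haq)
    have hq1 : q.height ≤ 1 := Ideal.height_le_one_of_isPrincipal_of_mem_minimalPrimes (Ideal.span {a}) q hq
    refine ⟨q, hF.mem_toFinset.2 ?_, haq⟩
    obtain ⟨q', hq', hle⟩ := Ideal.exists_minimalPrimes_le (I := Ideal.span {f}) (J := q)
      ((Ideal.span_singleton_le_iff_mem _).2 (h q hq.1.1 hq0))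
    haveI : q'.IsPrime := hq'.1.1
    rcases hle.eq_or_lt with e | hlt
    · exact e ▸ hq'
    · have hb : (⊥ : Ideal D) < q' := bot_lt_iff_ne_bot.2 fun e => hf (by
        simpa [e] using hq'.1.2 (Ideal.mem_span_singleton_self f))
      have h1 := Ideal.height_strict_mono_of_isPrime hb
      have h2 := Ideal.height_strict_mono_of_isPrime hlt
      rw [Ideal.height_bot] at h1
      exact absurd (lt_of_lt_of_le h2 hq1) (not_lt.2 (Order.one_le_iff_pos.2 h1))
  obtain ⟨q, hq, hle⟩ := (Ideal.subset_union_prime ⊥ ⊥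
    fun q hq _ _ => (hF.mem_toFinset.1 hq).1.1).1 hsub
  haveI := (hF.mem_toFinset.1 hq).1.1
  exact hcon ((Ideal.height_mono hle).trans
    (Ideal.height_le_one_of_isPrincipal_of_mem_minimalPrimes (Ideal.span {f}) q (hF.mem_toFinset.1 hq)))

theorem eq_of_forall_mem {R : Type u} [CommRing R] [IsNoetherianRing R] {p q r : Ideal R}
    [p.IsPrime] [q.IsPrime] [r.IsPrime] (hpq : p < q) (hqr : q ≤ r) {f : R} (hf : f ∉ p)
    (h : ∀ s : Ideal R, s.IsPrime → p < s → f ∈ s) : q = r := by
  by_contra hne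
  have hsurj : Function.Surjective (Ideal.Quotient.mk p) := Ideal.Quotient.mk_surjective
  have hprime : ∀ s : Ideal R, s.IsPrime → p ≤ s → (s.map (Ideal.Quotient.mk p)).IsPrime :=
    fun s hs hps => Ideal.map_isPrime_of_surjective hsurj (by rwa [Ideal.mk_ker])
  have hback : ∀ s : Ideal R, p ≤ s → (s.map (Ideal.Quotient.mk p)).comap (Ideal.Quotient.mk p) = s :=
    fun s hps => (Ideal.comap_map_of_surjective' _ hsurj s).trans (by rw [Ideal.mk_ker, sup_eq_left.2 hps])
  haveI := hprime q inferInstance hpq.le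
  haveI := hprime r inferInstance (hpq.le.trans hqr)
  have h01 : (⊥ : Ideal (R ⧸ p)) < q.map (Ideal.Quotient.mk p) := by
    refine bot_lt_iff_ne_bot.2 fun e => hpq.ne ?_
    rw [← hback q hpq.le, e, ← RingHom.ker_eq_comap_bot, Ideal.mk_ker]
  have h12 : q.map (Ideal.Quotient.mk p) < r.map (Ideal.Quotient.mk p) :=
    lt_of_le_of_ne (Ideal.map_mono hqr) fun e => hne (by rw [← hback q hpq.le, e, hback r (hpq.le.trans hqr)])
  have hle := height_le_one_of_forall_mem (D := R ⧸ p) (f := Ideal.Quotient.mk p f)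
    (fun e => hf (Ideal.Quotient.eq_zero_iff_mem.1 e)) (fun s hs hs0 => by
      have : p < s.comap (Ideal.Quotient.mk p) := by
        refine lt_of_le_of_ne (fun x hx => by simp [Ideal.mem_comap, Ideal.Quotient.eq_zero_iff_mem.2 hx]) fun e => hs0 ?_
        rw [← Ideal.map_comap_of_surjective _ hsurj s, ← e, Ideal.map_quotient_self]
      exact h _ (Ideal.IsPrime.comap _) this) (r.map (Ideal.Quotient.mk p))
  have h1 := Ideal.height_strict_mono_of_isPrime h01
  have h2 := Ideal.height_strict_mono_of_isPrime h12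
  rw [Ideal.height_bot] at h1
  exact absurd (lt_of_lt_of_le h2 hle) (not_lt.2 (Order.one_le_iff_pos.2 h1))

/-- A proper specialisation of a locally closed point is closed. -/
theorem isClosed_of_mem_closure {X : Scheme.{u}} [IsLocallyNoetherian X] {x : X}
    (hx : IsLocallyClosed ({x} : Set X)) {y : X} (hy : y ∈ closure ({x} : Set X)) (hne : y ≠ x) :
    IsClosed ({y} : Set X) := by
  rw [← closure_eq_iff_isClosed]
  refine Set.Subset.antisymm (fun w hw => ?_) subset_closure
  by_contra hwy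
  have hxy : x ⤳ y := specializes_iff_mem_closure.2 hy
  have hyw : y ⤳ w := specializes_iff_mem_closure.2 hw
  obtain ⟨U, hU, hwU, -⟩ := exists_isAffineOpen_mem_and_subset (X := X) (U := ⊤) (x := w) trivial
  have hyU : y ∈ U := hyw.mem_open U.2 hwU
  have hxU : x ∈ U := hxy.mem_open U.2 hyU
  haveI : IsNoetherianRing Γ(X, U) := IsLocallyNoetherian.component_noetherian ⟨U, hU⟩
  obtain ⟨a, rfl⟩ : x ∈ Set.range hU.fromSpec := by rw [hU.range_fromSpec]; exact hxU
  obtain ⟨b, rfl⟩ : y ∈ Set.range hU.fromSpec := by rw [hU.range_fromSpec]; exact hyU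
  obtain ⟨c, rfl⟩ : w ∈ Set.range hU.fromSpec := by rw [hU.range_fromSpec]; exact hwU
  have hind := hU.fromSpec.isOpenEmbedding.isInducing
  replace hxy : a.asIdeal ≤ b.asIdeal := (PrimeSpectrum.le_iff_specializes a b).2 (hind.specializes_iff.1 hxy)
  replace hyw : b.asIdeal ≤ c.asIdeal := (PrimeSpectrum.le_iff_specializes b c).2 (hind.specializes_iff.1 hyw)
  obtain ⟨V, F, hV, hF, hVF⟩ := hx
  have haV : hU.fromSpec a ∈ V ∩ F := hVF ▸ rfl
  obtain ⟨_, ⟨f, rfl⟩, haf, hfV⟩ := PrimeSpectrum.isTopologicalBasis_basic_opens.exists_subset_of_mem_open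
    (show a ∈ hU.fromSpec ⁻¹' V from haV.1) (hV.preimage hU.fromSpec.continuous)
  refine hwy (congrArg hU.fromSpec (PrimeSpectrum.ext ?_)).symm
  refine eq_of_forall_mem (p := a.asIdeal) (f := f) (lt_of_le_of_ne hxy fun e => hne ?_) hyw haf fun s hs hlt => ?_
  · rw [show b = a from PrimeSpectrum.ext e.symm]
  · by_contra hfs
    have hsp : hU.fromSpec a ⤳ hU.fromSpec ⟨s, hs⟩ :=
      (hind.specializes_iff).2 ((PrimeSpectrum.le_iff_specializes a ⟨s, hs⟩).1 hlt.le)
    have hmem : hU.fromSpec ⟨s, hs⟩ ∈ V ∩ F := ⟨hfV hfs, hsp.mem_closed hF haV.2⟩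
    rw [← hVF] at hmem
    exact hlt.ne (congrArg PrimeSpectrum.asIdeal
      (hU.fromSpec.isOpenEmbedding.injective (Set.mem_singleton_iff.1 hmem))).symm

theorem topologicalKrullDim_closure_le_one {X : Scheme.{u}} [IsLocallyNoetherian X] {x : X}
    (hx : IsLocallyClosed ({x} : Set X)) : topologicalKrullDim (closure ({x} : Set X)) ≤ 1 := by
  rw [topologicalKrullDim, Order.krullDim_le_one_iff]
  intro Z
  by_cases hxZ : (⟨x, subset_closure rfl⟩ : closure ({x} : Set X)) ∈ (Z : Set (closure ({x} : Set X)))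
  · refine Or.inr fun W hZW v _ => ?_
    have hsp : (⟨x, subset_closure rfl⟩ : closure ({x} : Set X)) ⤳ v :=
      (subtype_specializes_iff _ _).2 (specializes_iff_mem_closure.2 v.2)
    exact hsp.mem_closed Z.isClosed hxZ
  · refine Or.inl fun W hWZ => ?_
    have hclosed : ∀ z ∈ (Z : Set (closure ({x} : Set X))), IsClosed ({(z : X)} : Set X) := fun z hz =>
      isClosed_of_mem_closure hx z.2 fun e =>
        hxZ ((show (⟨x, subset_closure rfl⟩ : closure ({x} : Set X)) = z from Subtype.ext e.symm) ▸ hz)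
    have himg : IsClosed (Subtype.val '' (Z : Set (closure ({x} : Set X)))) :=
      (IsClosed.isClosedEmbedding_subtypeVal isClosed_closure).isClosedMap _ Z.isClosed
    have hirr : IsIrreducible (Subtype.val '' (Z : Set (closure ({x} : Set X)))) :=
      Z.isIrreducible.image _ continuous_subtype_val.continuousOn
    obtain ⟨g, hg⟩ := QuasiSober.sober hirr himg
    obtain ⟨z, hz, hzg⟩ := hg.mem
    have hsingle : ∀ z' ∈ (Z : Set (closure ({x} : Set X))), z' = z := fun z' hz' => by
      have h1 : (z' : X) ∈ closure ({(z : X)} : Set X) := by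
        rw [hzg]; exact hg.def.symm ▸ ⟨z', hz', rfl⟩
      rw [(hclosed z hz).closure_eq] at h1
      exact Subtype.ext h1
    obtain ⟨v, hv⟩ := W.isIrreducible.nonempty
    intro z' hz'
    rw [hsingle z' hz', ← hsingle v (hWZ hv)]
    exact hv

theorem exists_closed_point {X : Scheme.{u}} [IsLocallyNoetherian X] {Z : Set X} (hZ : IsClosed Z)
    (hne : Z.Nonempty) : ∃ x ∈ Z, IsClosed ({x} : Set X) := by
  obtain ⟨x₀, hx₀⟩ := hne
  obtain ⟨U, hU, hxU, -⟩ := exists_isAffineOpen_mem_and_subset (X := X) (U := ⊤) (x := x₀) trivial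
  haveI : CompactSpace (U : Set X) := isCompact_iff_compactSpace.1 hU.isCompact
  obtain ⟨z, hz, hzc⟩ := IsClosed.exists_closed_singleton (X := (U : Set X))
    (hZ.preimage (continuous_subtype_val (p := (· ∈ (U : Set X)))))
    ⟨⟨x₀, hxU⟩, hx₀⟩
  have hloc : IsLocallyClosed ({(z : X)} : Set X) := by
    obtain ⟨F, hF, hFz⟩ := isClosed_induced_iff.1 hzc
    refine ⟨U, F, U.2, hF, ?_⟩
    ext w
    constructor
    · rintro rfl
      exact ⟨z.2, (Set.ext_iff.1 hFz z).2 rfl⟩
    · exact fun hw => congrArg Subtype.val ((Set.ext_iff.1 hFz ⟨w, hw.1⟩).1 hw.2)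
  by_cases hcl : IsClosed ({(z : X)} : Set X)
  · exact ⟨z, hz, hcl⟩
  obtain ⟨y, hy, hyz⟩ : ∃ y ∈ closure ({(z : X)} : Set X), y ≠ z := by
    by_contra! hall
    exact hcl (closure_eq_iff_isClosed.1 (Set.Subset.antisymm (fun y hy => hall y hy) subset_closure))
  exact ⟨y, (specializes_iff_mem_closure.2 hy).mem_closed hZ hz, isClosed_of_mem_closure hloc hy hyz⟩

end Groth.Agent.RegLocLib
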