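import Mathlib
import Groth.Agent.GrSegreLib.Dim

/-!
Dimension theory of affine domains.
-/

set_option autoImplicit false

universe u

namespace Groth.Agent.RegLocLib

theorem height_eq_of_isMaximal_mvPolynomial (k : Type u) [Field k] (n : ℕ) :
    ∀ (P : Ideal (MvPolynomial (Fin n) k)), P.IsMaximal → P.height = n := by
  induction n with
  | zero =>
    intro P hP
    have : IsField (MvPolynomial (Fin 0) k) :=
      (MvPolynomial.isEmptyRingEquiv k (Fin 0)).toMulEquiv.isField (Field.toIsField k)
    letI := this.toField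
    rw [(Ideal.eq_bot_or_top P).resolve_right hP.ne_top, Ideal.height_bot, Nat.cast_zero]
  | succ n ih =>
    intro P hP
    let e := (MvPolynomial.finSuccEquiv k n).toRingEquiv
    let Q : Ideal (Polynomial (MvPolynomial (Fin n) k)) := P.map e
    haveI : Q.IsMaximal := Ideal.map_isMaximal_of_equiv e
    let p : Ideal (MvPolynomial (Fin n) k) := Q.comap Polynomial.C
    haveI hp : p.IsMaximal := Polynomial.isMaximal_comap_C_of_isJacobsonRing Q
    haveI : Q.LiesOver p := ⟨rfl⟩
    rw [← e.height_map P, Polynomial.height_eq_height_add_one p Q, ih p hp, Nat.cast_succ]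

theorem height_eq_of_liesOver_of_isIntegral {R S : Type u} [CommRing R] [CommRing S]
    [IsNoetherianRing R] [IsNoetherianRing S] [Algebra R S] [Algebra.HasGoingDown R S] [Algebra.IsIntegral R S]
    (p : Ideal R) [p.IsPrime] (P : Ideal S) [P.IsPrime] [P.LiesOver p] : P.height = p.height := by
  refine le_antisymm ?_ (by rw [Ideal.height_eq_height_add_of_liesOver_of_hasGoingDown p P]; exact le_self_add)
  rw [(⟨P, inferInstance⟩ : PrimeSpectrum S).height_eq_orderHeight,
    (⟨p, inferInstance⟩ : PrimeSpectrum R).height_eq_orderHeight]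
  have h := Order.height_le_height_apply_of_strictMono (PrimeSpectrum.comap (algebraMap R S))
    (fun _ _ h => Ideal.IsIntegral.comap_lt_comap (R := R) h) ⟨P, inferInstance⟩
  have hp : PrimeSpectrum.comap (algebraMap R S) ⟨P, inferInstance⟩ = ⟨p, inferInstance⟩ :=
    PrimeSpectrum.ext (Ideal.LiesOver.over (P := P) (p := p)).symm
  rw [hp] at h
  exact h

theorem affine_domain_dim (k S : Type u) [Field k] [CommRing S] [IsDomain S] [Algebra k S]
    [Algebra.FiniteType k S] :
    ∃ n : ℕ, Algebra.trdeg k (FractionRing S) = n ∧ ringKrullDim S = n ∧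
      ∀ (m : Ideal S) [m.IsMaximal], ringKrullDim (Localization.AtPrime m) = n := by
  obtain ⟨s, g, hinj, hint⟩ := exists_integral_inj_algHom_of_fg k S
  refine ⟨s, ?_, ?_, ?_⟩
  · letI : Algebra (MvPolynomial (Fin s) k) S := g.toRingHom.toAlgebra
    haveI : IsScalarTower k (MvPolynomial (Fin s) k) S :=
      .of_algebraMap_eq fun x => (g.commutes x).symm
    haveI : Algebra.IsIntegral (MvPolynomial (Fin s) k) S := ⟨hint⟩
    haveI : FaithfulSMul (MvPolynomial (Fin s) k) S := (faithfulSMul_iff_algebraMap_injective _ _).2 hinj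
    haveI : FaithfulSMul (MvPolynomial (Fin s) k) (FractionRing S) := (faithfulSMul_iff_algebraMap_injective _ _).2 (by
      rw [IsScalarTower.algebraMap_eq _ S (FractionRing S), RingHom.coe_comp]
      exact (IsFractionRing.injective S (FractionRing S)).comp hinj)
    haveI : Algebra.IsAlgebraic (MvPolynomial (Fin s) k) (FractionRing S) :=
      (IsFractionRing.isAlgebraic_iff' (MvPolynomial (Fin s) k) S (FractionRing S)).1 inferInstance
    rw [← trdeg_add_eq k (MvPolynomial (Fin s) k) (A := FractionRing S), trdeg_eq_zero (R := MvPolynomial (Fin s) k),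
      add_zero, MvPolynomial.trdeg_of_isDomain]
    simp
  · rw [← GrSegreLib.ringKrullDim_eq_of_integral_injective g.toRingHom hinj hint,
      MvPolynomial.ringKrullDim_of_isNoetherianRing, ringKrullDim_eq_zero_of_field, zero_add]
    simp
  · intro m hm
    letI : Algebra (MvPolynomial (Fin s) k) S := g.toRingHom.toAlgebra
    haveI : Algebra.IsIntegral (MvPolynomial (Fin s) k) S := ⟨hint⟩
    haveI : FaithfulSMul (MvPolynomial (Fin s) k) S := (faithfulSMul_iff_algebraMap_injective _ _).2 hinj
    haveI : IsNoetherianRing S := Algebra.FiniteType.isNoetherianRing k S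
    haveI := Ideal.isMaximal_comap_of_isIntegral_of_isMaximal (R := MvPolynomial (Fin s) k) m
    haveI : m.LiesOver (m.comap (algebraMap (MvPolynomial (Fin s) k) S)) := ⟨rfl⟩
    rw [IsLocalization.AtPrime.ringKrullDim_eq_height m,
      height_eq_of_liesOver_of_isIntegral (m.comap (algebraMap (MvPolynomial (Fin s) k) S)) m,
      height_eq_of_isMaximal_mvPolynomial k s _ inferInstance]
    rfl

end Groth.Agent.RegLocLib
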