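import Mathlib
import Groth.Agent.RegLocLib.Basic

set_option autoImplicit false

/-!
Nagata's criterion for openness of the regular locus.
-/

universe u

namespace Groth.Agent.RegLocLib

open IsLocalRing PrimeSpectrum

variable {A : Type u} [CommRing A]

theorem isOpen_of_nhds [IsNoetherianRing A] (E : Set (PrimeSpectrum A))
    (hgen : ∀ p q : PrimeSpectrum A, q.asIdeal ≤ p.asIdeal → p ∈ E → q ∈ E)
    (h : ∀ p ∈ E, ∃ f ∉ p.asIdeal, ∀ q : PrimeSpectrum A, p.asIdeal ≤ q.asIdeal →
      f ∉ q.asIdeal → q ∈ E) : IsOpen E := by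
  classical
  rw [← isClosed_compl_iff]
  set J := vanishingIdeal Eᶜ
  suffices hJ : zeroLocus (J : Set A) ⊆ Eᶜ by
    have : Eᶜ = zeroLocus (J : Set A) :=
      Set.Subset.antisymm (subset_zeroLocus_vanishingIdeal _) hJ
    rw [this]
    exact isClosed_zeroLocus _
  intro x hx hxE
  rw [mem_zeroLocus] at hx
  obtain ⟨p, hp, hpx⟩ := Ideal.exists_minimalPrimes_le (J := x.asIdeal) hx
  haveI hpp : p.IsPrime := hp.1.1
  obtain ⟨f, hf, hfU⟩ := h ⟨p, hpp⟩ (hgen x ⟨p, hpp⟩ hpx hxE)
  let s := (J.finite_minimalPrimes_of_isNoetherianRing A).toFinset.erase p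
  have hs : ¬ s.inf id ≤ p := by
    intro hle
    obtain ⟨q, hq, hqp⟩ := (Ideal.IsPrime.inf_le' hpp).1 hle
    rw [Finset.mem_erase, Set.Finite.mem_toFinset] at hq
    exact hq.1 (le_antisymm hqp (hp.2 hq.2.1 hqp))
  obtain ⟨e, he, hep⟩ := SetLike.not_le_iff_exists.1 hs
  have hfe : f * e ∈ J := by
    rw [mem_vanishingIdeal]
    intro z hz
    have hJz : J ≤ z.asIdeal := fun a ha => (mem_vanishingIdeal _ _).1 ha z hz
    obtain ⟨q, hq, hqz⟩ := Ideal.exists_minimalPrimes_le hJz
    by_cases hqp : q = p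
    · refine z.asIdeal.mul_mem_right _ (by_contra fun hfz => hz ?_)
      exact hfU z (hqp ▸ hqz) hfz
    · refine z.asIdeal.mul_mem_left _ (hqz ?_)
      refine (Finset.inf_le (f := id) ?_ : s.inf id ≤ q) he
      rw [Finset.mem_erase, Set.Finite.mem_toFinset]
      exact ⟨hqp, hq⟩
  exact (hpp.mem_or_mem (hp.1.2 hfe)).elim hf hep

/-- The generic point of a nonempty open subset of the spectrum of a quotient by a prime. -/
theorem exists_notMem_of_open (p : Ideal A) [p.IsPrime] {U : Set (PrimeSpectrum (A ⧸ p))}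
    (hU : IsOpen U) (hne : U.Nonempty) :
    ∃ f ∉ p, ∀ Q : PrimeSpectrum (A ⧸ p), Ideal.Quotient.mk p f ∉ Q.asIdeal → Q ∈ U := by
  obtain ⟨Q₀, hQ₀⟩ := hne
  obtain ⟨_, ⟨g, rfl⟩, hg, hgU⟩ :=
    isTopologicalBasis_basic_opens.exists_subset_of_mem_open hQ₀ hU
  obtain ⟨f, rfl⟩ := Ideal.Quotient.mk_surjective g
  exact ⟨f, fun hf => hg (by rw [Ideal.Quotient.eq_zero_iff_mem.2 hf]; exact zero_mem _),
    fun Q hQ => hgU hQ⟩

/-- Regularity spreads from a prime to a neighbourhood in its closure. -/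
theorem exists_nhd_of_quotient [IsNoetherianRing A] (p : PrimeSpectrum A)
    (hp : p ∈ EGA4.regLocus A)
    (h : ∃ U : Set (PrimeSpectrum (A ⧸ p.asIdeal)), IsOpen U ∧ U.Nonempty ∧
      U ⊆ EGA4.regLocus (A ⧸ p.asIdeal)) :
    ∃ f ∉ p.asIdeal, ∀ q : PrimeSpectrum A, p.asIdeal ≤ q.asIdeal → f ∉ q.asIdeal →
      q ∈ EGA4.regLocus A := by
  classical
  obtain ⟨U, hU, hne, hsub⟩ := h
  obtain ⟨f₀, hf₀, hf₀U⟩ := exists_notMem_of_open p.asIdeal hU hne
  obtain ⟨P, hP⟩ := p
  dsimp only at *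
  let L := Localization.AtPrime P
  haveI : IsRegularLocalRing L := hp
  have hfg : (maximalIdeal L).FG := IsNoetherian.noetherian _
  let G := (Submodule.FG.finite_generators hfg).toFinset
  have hGcard : G.card = (maximalIdeal L).spanFinrank := by
    rw [← Submodule.FG.generators_ncard hfg, Set.ncard_eq_toFinset_card _ (Submodule.FG.finite_generators hfg)]
  have hGspan : Ideal.span (G : Set L) = maximalIdeal L := by
    rw [Set.Finite.coe_toFinset]; exact Submodule.span_generators _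
  have hnum : ∀ x : L, ∃ a : A, Ideal.span {algebraMap A L a} = Ideal.span {x} := fun x => by
    obtain ⟨a, s, rfl⟩ := IsLocalization.exists_mk'_eq P.primeCompl x
    refine ⟨a, ?_⟩
    rw [← IsLocalization.mk'_spec L a s]
    exact Ideal.span_singleton_mul_right_unit (IsLocalization.map_units L s) _
  choose num hnum using hnum
  let J : Ideal A := Ideal.span ((G.image num : Finset A) : Set A)
  have hJ : J.map (algebraMap A L) = maximalIdeal L := by
    rw [← hGspan, Ideal.map_span, Finset.coe_image, ← Set.image_comp]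
    refine le_antisymm (Ideal.span_le.2 ?_) (Ideal.span_le.2 fun x hx => ?_)
    · rintro _ ⟨x, hx, rfl⟩
      have : algebraMap A L (num x) ∈ Ideal.span {x} := hnum x ▸ Ideal.mem_span_singleton_self _
      exact Ideal.span_mono (Set.singleton_subset_iff.2 hx) this
    · have : x ∈ Ideal.span {algebraMap A L (num x)} := (hnum x).symm ▸ Ideal.mem_span_singleton_self _
      exact Ideal.span_mono (Set.singleton_subset_iff.2 (Set.mem_image_of_mem (fun x => algebraMap A L (num x)) hx)) this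
  have hJP : J ≤ P := fun a ha => by
    rw [← IsLocalization.AtPrime.under_maximalIdeal L P, ← hJ]
    exact Ideal.mem_map_of_mem _ ha
  have hs : ∀ y ∈ P, ∃ s ∉ P, s * y ∈ J := fun y hy => by
    have : algebraMap A L y ∈ J.map (algebraMap A L) := by
      rw [hJ, ← Localization.AtPrime.map_eq_maximalIdeal]; exact Ideal.mem_map_of_mem _ hy
    obtain ⟨s, hs, hsy⟩ := (IsLocalization.algebraMap_mem_map_algebraMap_iff P.primeCompl L J y).1 this
    exact ⟨s, hs, hsy⟩
  choose s hs hsy using hs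
  obtain ⟨T, hT⟩ := (IsNoetherian.noetherian P : P.FG)
  have hTP : ∀ y ∈ T, y ∈ P := fun y hy => hT ▸ Submodule.subset_span hy
  let f₁ := ∏ y ∈ T.attach, s y.1 (hTP y.1 y.2)
  have hf₁ : f₁ ∉ P := fun hmem => by
    obtain ⟨y, -, hy⟩ := (hP.prod_mem_iff).1 hmem
    exact hs _ _ hy
  have hkey : ∀ y ∈ P, f₁ * y ∈ J := fun y hy => by
    rw [← hT] at hy
    induction hy using Submodule.span_induction with
    | mem z hz =>
      show (∏ y ∈ T.attach, s y.1 (hTP y.1 y.2)) * z ∈ J
      rw [← Finset.prod_erase_mul T.attach _ (Finset.mem_attach T ⟨z, hz⟩), mul_assoc]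
      exact J.mul_mem_left _ (hsy z (hTP z hz))
    | zero => simp
    | add a b _ _ ha hb => rw [mul_add]; exact add_mem ha hb
    | smul c a _ ha => rw [smul_eq_mul, mul_left_comm]; exact J.mul_mem_left _ ha
  refine ⟨f₀ * f₁, fun hmem => (hP.mem_or_mem hmem).elim hf₀ hf₁, fun q hPq hfq => ?_⟩
  let Lq := Localization.AtPrime q.asIdeal
  haveI : IsNoetherianRing Lq := IsLocalization.isNoetherianRing q.asIdeal.primeCompl _ inferInstance
  have hdisj : Disjoint (q.asIdeal.primeCompl : Set A) (P : Set A) :=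
    Set.disjoint_left.2 fun x hx hxP => hx (hPq hxP)
  haveI : (P.map (algebraMap A Lq)).IsPrime :=
    IsLocalization.isPrime_of_isPrime_disjoint q.asIdeal.primeCompl Lq P hP hdisj
  have hPJ : P.map (algebraMap A Lq) = J.map (algebraMap A Lq) := by
    refine le_antisymm (Ideal.map_le_iff_le_comap.2 fun y hy => ?_) (Ideal.map_mono hJP)
    exact (IsLocalization.algebraMap_mem_map_algebraMap_iff q.asIdeal.primeCompl Lq J y).2
      ⟨f₁, fun hf => hfq (q.asIdeal.mul_mem_left _ hf), hkey y hy⟩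
  have hgen : (Submodule.spanFinrank (P.map (algebraMap A Lq)) : ℕ∞) =
      (P.map (algebraMap A Lq)).height := by
    refine le_antisymm ?_ (Ideal.height_le_spanFinrank _ Ideal.IsPrime.ne_top')
    have hdim : ((maximalIdeal L).spanFinrank : WithBot ℕ∞) = (P.height : WithBot ℕ∞) := by
      rw [IsRegularLocalRing.spanFinrank_maximalIdeal, IsLocalization.AtPrime.ringKrullDim_eq_height P]
    rw [IsLocalization.height_map_of_disjoint q.asIdeal.primeCompl P hdisj,
      ← WithBot.coe_inj.1 hdim, Nat.cast_le, hPJ, ← hGcard]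
    refine (spanFinrank_map_le _ J (IsNoetherian.noetherian J)).trans ?_
    refine (Submodule.spanFinrank_span_le_ncard_of_finite (Finset.finite_toSet _)).trans ?_
    rw [Set.ncard_coe_finset]
    exact Finset.card_image_le
  let Q : PrimeSpectrum (A ⧸ P) := ⟨q.asIdeal.map (Ideal.Quotient.mk P),
    Ideal.map_isPrime_of_surjective Ideal.Quotient.mk_surjective (by rw [Ideal.mk_ker]; exact hPq)⟩
  have hQ : Q.asIdeal.comap (Ideal.Quotient.mk P) = q.asIdeal := by
    show (q.asIdeal.map (Ideal.Quotient.mk P)).comap (Ideal.Quotient.mk P) = q.asIdeal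
    rw [Ideal.comap_map_of_surjective' _ Ideal.Quotient.mk_surjective, Ideal.mk_ker, sup_eq_left.2 hPq]
  have hQreg : Q ∈ EGA4.regLocus (A ⧸ P) := hsub (hf₀U Q fun hf => hfq
    (q.asIdeal.mul_mem_right _ (hQ ▸ hf)))
  haveI : Q.asIdeal.IsPrime := Q.isPrime
  haveI : IsLocalization.AtPrime (Lq ⧸ P.map (algebraMap A Lq)) Q.asIdeal := by
    have : Algebra.algebraMapSubmonoid (A ⧸ P) q.asIdeal.primeCompl = Q.asIdeal.primeCompl := by
      ext x
      constructor
      · rintro ⟨a, ha, rfl⟩ hmem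
        exact ha (hQ ▸ hmem)
      · intro hx
        obtain ⟨a, rfl⟩ := Ideal.Quotient.mk_surjective x
        exact ⟨a, fun ha => hx (Ideal.mem_map_of_mem _ ha), rfl⟩
    rw [IsLocalization.AtPrime, ← this]
    infer_instance
  haveI : IsRegularLocalRing (Lq ⧸ P.map (algebraMap A Lq)) :=
    @IsRegularLocalRing.of_ringEquiv _ _ hQreg _ _
      (IsLocalization.algEquiv Q.asIdeal.primeCompl (Localization.AtPrime Q.asIdeal)
        (Lq ⧸ P.map (algebraMap A Lq))).toRingEquiv
  exact RegLocal.isRegularLocalRing_of_quot_of_spanFinrank_eq_height _ hgen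

theorem isOpen_regLocus_of_quotients [IsNoetherianRing A]
    (h : ∀ p : PrimeSpectrum A, p ∈ EGA4.regLocus A →
      ∃ U : Set (PrimeSpectrum (A ⧸ p.asIdeal)), IsOpen U ∧ U.Nonempty ∧
        U ⊆ EGA4.regLocus (A ⧸ p.asIdeal)) : IsOpen (EGA4.regLocus A) :=
  isOpen_of_nhds _ (fun _ _ h' hp => mem_regLocus_of_le h' hp)
    fun p hp => exists_nhd_of_quotient p hp (h p hp)

theorem bot_mem_regLocus {D : Type u} [CommRing D] [IsDomain D] :
    (⟨⊥, Ideal.isPrime_bot⟩ : PrimeSpectrum D) ∈ EGA4.regLocus D := by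
  haveI : (⊥ : Ideal D).IsPrime := Ideal.isPrime_bot
  show IsRegularLocalRing (Localization.AtPrime (⊥ : Ideal D))
  have h : IsField (Localization.AtPrime (⊥ : Ideal D)) := by
    haveI : IsFractionRing D (Localization.AtPrime (⊥ : Ideal D)) := by
      show IsLocalization (nonZeroDivisors D) _
      rw [← Ideal.primeCompl_bot]
      infer_instance
    exact (IsFractionRing.toField D).toIsField
  letI := h.toField
  infer_instance

theorem nonempty_open_of_isOpen {D : Type u} [CommRing D] [IsDomain D]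
    (h : IsOpen (EGA4.regLocus D)) :
    ∃ U : Set (PrimeSpectrum D), IsOpen U ∧ U.Nonempty ∧ U ⊆ EGA4.regLocus D :=
  ⟨_, h, ⟨_, bot_mem_regLocus⟩, subset_rfl⟩

end Groth.Agent.RegLocLib
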