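import Mathlib

set_option autoImplicit false

/-!
A finitely generated field extension becomes separable after a finite extension of the base.
-/

universe u

namespace Groth.Agent.RegLocLib

open IntermediateField

theorem formallySmooth_of_separablyGenerated {k E : Type u} [Field k] [Field E] [Algebra k E]
    {ι : Type u} (x : ι → E) (hx : AlgebraicIndependent k x)
    (hsep : Algebra.IsSeparable (adjoin k (Set.range x)) E) : Algebra.FormallySmooth k E := by
  haveI : Algebra.FormallySmooth (MvPolynomial ι k) (FractionRing (MvPolynomial ι k)) :=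
    Algebra.FormallySmooth.of_isLocalization (nonZeroDivisors (MvPolynomial ι k))
  haveI : Algebra.FormallySmooth k (FractionRing (MvPolynomial ι k)) :=
    Algebra.FormallySmooth.comp k (MvPolynomial ι k) _
  haveI : Algebra.FormallySmooth k (adjoin k (Set.range x)) :=
    Algebra.FormallySmooth.of_equiv hx.aevalEquivField
  haveI := Algebra.FormallyEtale.of_isSeparable (adjoin k (Set.range x)) E
  exact Algebra.FormallySmooth.comp k (adjoin k (Set.range x)) E

theorem exists_finset_adjoin_union {K M : Type u} [Field K] [Field M] [Algebra K M]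
    (P T : Set M) (s : Finset M) (h : ∀ y ∈ s, y ∈ adjoin K (P ∪ T)) :
    ∃ c : Finset M, (c : Set M) ⊆ P ∧ ∀ y ∈ s, y ∈ adjoin K ((c : Set M) ∪ T) := by
  classical
  induction s using Finset.induction with
  | empty => exact ⟨∅, by simp, by simp⟩
  | insert a s _ ih =>
    obtain ⟨c, hc, hcs⟩ := ih fun y hy => h y (Finset.mem_insert_of_mem hy)
    obtain ⟨D, hD, haD⟩ := exists_finset_of_mem_adjoin (h a (Finset.mem_insert_self _ _))
    refine ⟨c ∪ D.filter (· ∈ P), ?_, fun y hy => ?_⟩
    · intro z hz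
      rcases Finset.mem_union.1 hz with hz | hz
      · exact hc hz
      · exact (Finset.mem_filter.1 hz).2
    · rcases Finset.mem_insert.1 hy with rfl | hy
      · refine adjoin.mono K _ _ (fun z hz => ?_) haD
        rcases hD hz with h' | h'
        · exact Or.inl (Finset.mem_union_right _ (Finset.mem_filter.2 ⟨hz, h'⟩))
        · exact Or.inr h'
      · exact adjoin.mono K _ _ (Set.union_subset_union_left _ (by simp)) (hcs y hy)

theorem exists_separable_poly {k Ω : Type u} [Field k] [Field Ω] [Algebra k Ω]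
    {E : IntermediateField k Ω} (s : Set E) [Algebra.IsSeparable (adjoin k s) E] (y : E) :
    ∃ P : Polynomial Ω, (∀ n, P.coeff n ∈ adjoin k (Subtype.val '' s)) ∧ P.Separable ∧
      P.eval (y : Ω) = 0 := by
  refine ⟨((minpoly (adjoin k s) y).map (algebraMap (adjoin k s) E)).map (algebraMap E Ω),
    fun n => ?_, ?_, ?_⟩
  · rw [Polynomial.coeff_map, Polynomial.coeff_map, ← show (E.val : E → Ω) = Subtype.val from rfl,
      ← adjoin_map]
    exact ⟨_, ((minpoly (adjoin k s) y).coeff n).2, rfl⟩
  · exact (Polynomial.Separable.map (Algebra.IsSeparable.isSeparable (adjoin k s) y)).map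
  · have h : ((minpoly (adjoin k s) y).map (algebraMap (adjoin k s) E)).eval y = 0 := by
      rw [Polynomial.eval_map, ← Polynomial.aeval_def, minpoly.aeval]
    rw [Polynomial.eval_map, show (y : Ω) = algebraMap E Ω y from rfl, Polynomial.eval₂_at_apply, h,
      map_zero]

theorem algebraicIndependent_of_le {K Ω : Type u} [Field K] [Field Ω] [Algebra K Ω]
    {K' Kp : IntermediateField K Ω} (h : K' ≤ Kp) {ι : Type u} (x : ι → Ω)
    (hx : AlgebraicIndependent Kp x) : AlgebraicIndependent K' x := by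
  letI : Algebra K' Kp := (IntermediateField.inclusion h).toRingHom.toAlgebra
  haveI : IsScalarTower K' Kp Ω := .of_algebraMap_eq fun _ => rfl
  exact hx.restrictScalars (IntermediateField.inclusion h).injective

theorem formallySmooth_adjoin {k Ω : Type u} [Field k] [Field Ω] [Algebra k Ω] (S T : Set Ω)
    (hind : AlgebraicIndependent k (fun y : S => (y : Ω))) (hS : S ⊆ adjoin k T)
    (hT : ∀ y ∈ T, IsSeparable (adjoin k S) y) :
    Algebra.FormallySmooth k (adjoin k T) := by
  let F := adjoin k S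
  let G := adjoin F T
  haveI hsepL : Algebra.IsSeparable F G := (isSeparable_adjoin_iff_isSeparable F Ω).2 hT
  let x : S → G := fun y => algebraMap F G ⟨y.1, subset_adjoin k _ y.2⟩
  let val : G →ₐ[k] Ω := G.val.restrictScalars k
  have hind' : AlgebraicIndependent k x := AlgebraicIndependent.of_comp val hind
  have hsmooth : Algebra.FormallySmooth k G := by
    refine formallySmooth_of_separablyGenerated x hind' ?_
    let R := adjoin k (Set.range x)
    have himg : R.map val = F := by
      rw [adjoin_map]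
      congr 1
      ext z
      constructor
      · rintro ⟨_, ⟨y, rfl⟩, rfl⟩; exact y.2
      · exact fun hz => ⟨x ⟨z, hz⟩, ⟨⟨z, hz⟩, rfl⟩, rfl⟩
    have hR : ∀ f : F, algebraMap F G f ∈ R := by
      intro f
      obtain ⟨r, hr, hrf⟩ := (SetLike.ext_iff.1 himg (f : Ω)).2 f.2
      exact (Subtype.ext hrf : r = algebraMap F G f) ▸ hr
    letI : Algebra F R := ((algebraMap F G).codRestrict R hR).toAlgebra
    haveI : IsScalarTower F R G := .of_algebraMap_eq fun _ => rfl
    exact Algebra.isSeparable_tower_top_of_isSeparable F R G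
  have heq : G.restrictScalars k = adjoin k T := by
    rw [adjoin_adjoin_left]
    exact le_antisymm (adjoin_le_iff.2 (Set.union_subset hS (subset_adjoin k _)))
      (adjoin.mono k _ _ Set.subset_union_right)
  let e : G ≃ₐ[k] adjoin k T :=
    { toFun := fun z => ⟨z.1, heq.le z.2⟩
      invFun := fun z => ⟨z.1, heq.ge z.2⟩
      left_inv := fun _ => rfl
      right_inv := fun _ => rfl
      map_mul' := fun _ _ => rfl
      map_add' := fun _ _ => rfl
      commutes' := fun _ => rfl }
  exact Algebra.FormallySmooth.of_equiv e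

theorem isSeparable_of_coeff_mem {k Ω : Type u} [Field k] [Field Ω] [Algebra k Ω]
    (F : IntermediateField k Ω) {P : Polynomial Ω} (hc : ∀ n, P.coeff n ∈ F) (hP : P.Separable)
    {y : Ω} (h0 : P.eval y = 0) : IsSeparable F y := by
  obtain ⟨p, hp⟩ : P ∈ Polynomial.lifts (algebraMap F Ω) := by
    rw [Polynomial.lifts_iff_coeff_lifts]
    exact fun n => ⟨⟨_, hc n⟩, rfl⟩
  change p.map (algebraMap F Ω) = _ at hp
  have hps : p.Separable := by rwa [← hp, Polynomial.separable_map] at hP
  refine hps.of_dvd (minpoly.dvd F y ?_)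
  rw [Polynomial.aeval_def, ← Polynomial.eval_map, hp]
  exact h0

theorem exists_formallySmooth_aux {K Ω : Type u} [Field K] [Field Ω] [Algebra K Ω] [PerfectField Ω]
    (t : Finset Ω) :
    ∃ c : Finset Ω, (∀ x ∈ c, IsIntegral K x) ∧
      Algebra.FormallySmooth (adjoin K (c : Set Ω)) (adjoin (adjoin K (c : Set Ω)) (t : Set Ω)) := by
  classical
  let Kp := perfectClosure K Ω
  let E := adjoin Kp (t : Set Ω)
  haveI : Algebra.EssFiniteType Kp E := essFiniteType_iff.2 (fg_adjoin_finset t)
  obtain ⟨s, hs, hsep⟩ := exists_isTranscendenceBasis_and_isSeparable_of_perfectField Kp E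
  let sΩ : Finset Ω := s.image Subtype.val
  have hmem : ∀ y ∈ sΩ, y ∈ E := by
    intro y hy
    obtain ⟨z, -, rfl⟩ := Finset.mem_image.1 hy
    exact z.2
  have hpoly : ∀ y : {y // y ∈ t}, ∃ P : Polynomial Ω,
      (∀ n, P.coeff n ∈ adjoin Kp (sΩ : Set Ω)) ∧ P.Separable ∧ P.eval y.1 = 0 := by
    rintro ⟨y, hy⟩
    have h := exists_separable_poly (s : Set E) ⟨y, subset_adjoin Kp _ hy⟩
    rwa [← Finset.coe_image] at h
  choose P hPc hPs hP0 using hpoly
  let coeffs : Finset Ω := Finset.univ.biUnion fun y =>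
    (Finset.range ((P y).natDegree + 1)).image (P y).coeff
  obtain ⟨c₁, hc₁, hc₁s⟩ := exists_finset_adjoin_union (K := K) (Kp : Set Ω) (t : Set Ω) sΩ
    fun y hy => by
      rw [← restrictScalars_adjoin]
      exact hmem y hy
  obtain ⟨c₂, hc₂, hc₂c⟩ := exists_finset_adjoin_union (K := K) (Kp : Set Ω) (sΩ : Set Ω) coeffs
    fun y hy => by
      obtain ⟨z, -, hz⟩ := Finset.mem_biUnion.1 hy
      obtain ⟨n, -, rfl⟩ := Finset.mem_image.1 hz
      rw [← restrictScalars_adjoin]
      exact hPc z n
  have hcKp : ((c₁ ∪ c₂ : Finset Ω) : Set Ω) ⊆ Kp := by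
    rw [Finset.coe_union]; exact Set.union_subset hc₁ hc₂
  refine ⟨c₁ ∪ c₂, fun x hx => ?_, ?_⟩
  · have h := (perfectClosure.isAlgebraic K Ω).isAlgebraic ⟨x, hcKp hx⟩
    exact h.isIntegral.map Kp.val
  refine formallySmooth_adjoin (sΩ : Set Ω) (t : Set Ω) ?_ (fun y hy => ?_) fun y hy => ?_
  · refine algebraicIndependent_of_le (adjoin_le_iff.2 hcKp) _ ?_
    have h1 : AlgebraicIndependent Kp (fun z : (s : Set E) => ((z.1 : E) : Ω)) :=
      hs.1.map' (f := E.val) E.val.injective
    have he : ∀ y : (sΩ : Set Ω), ∃ z : (s : Set E), ((z.1 : E) : Ω) = y := fun y => by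
      obtain ⟨z, hz, hzy⟩ := Finset.mem_image.1 y.2
      exact ⟨⟨z, hz⟩, hzy⟩
    choose e he using he
    have h2 := h1.comp e fun a b hab => Subtype.ext (by rw [← he a, ← he b, hab])
    rwa [show ((fun z : (s : Set E) => ((z.1 : E) : Ω)) ∘ e) = (fun y : (sΩ : Set Ω) => (y : Ω)) from funext he] at h2
  · have h : y ∈ adjoin K (((c₁ ∪ c₂ : Finset Ω) : Set Ω) ∪ t) :=
      adjoin.mono K _ _ (Set.union_subset_union_left _ (by simp)) (hc₁s y hy)
    rw [← adjoin_adjoin_left] at h
    exact h
  · refine isSeparable_of_coeff_mem _ (P := P ⟨y, hy⟩) (fun n => ?_) (hPs _) (hP0 ⟨y, hy⟩)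
    by_cases hn : n ≤ (P ⟨y, hy⟩).natDegree
    · have h : (P ⟨y, hy⟩).coeff n ∈ adjoin K (((c₁ ∪ c₂ : Finset Ω) : Set Ω) ∪ sΩ) :=
        adjoin.mono K _ _ (Set.union_subset_union_left _ (by simp)) (hc₂c _
          (Finset.mem_biUnion.2 ⟨⟨y, hy⟩, Finset.mem_univ _, Finset.mem_image.2
            ⟨n, Finset.mem_range.2 (Nat.lt_succ_of_le hn), rfl⟩⟩))
      rw [← adjoin_adjoin_left] at h
      exact h
    · rw [Polynomial.coeff_eq_zero_of_natDegree_lt (not_le.1 hn)]
      exact zero_mem _

theorem exists_formallySmooth_compositum (K L Ω : Type u) [Field K] [Field L] [Algebra K L]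
    [Algebra.EssFiniteType K L] [Field Ω] [Algebra L Ω] [Algebra K Ω] [IsScalarTower K L Ω]
    [PerfectField Ω] :
    ∃ c : Finset Ω, (∀ x ∈ c, IsIntegral K x) ∧
      ∃ L' : IntermediateField (adjoin K (c : Set Ω)) Ω,
        L'.restrictScalars K = adjoin K ((c : Set Ω) ∪ Set.range (algebraMap L Ω)) ∧
        Algebra.FormallySmooth (adjoin K (c : Set Ω)) L' := by
  classical
  obtain ⟨t₀, ht₀⟩ := IntermediateField.fg_top K L
  let ι : L →ₐ[K] Ω := IsScalarTower.toAlgHom K L Ω
  have hrange : adjoin K (Set.range (algebraMap L Ω)) = adjoin K ((t₀.image ι : Finset Ω) : Set Ω) := by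
    rw [Finset.coe_image, ← adjoin_map, ht₀, ← AlgHom.fieldRange_eq_map]
    exact le_antisymm (adjoin_le_iff.2 (by rintro _ ⟨y, rfl⟩; exact ⟨y, rfl⟩))
      (fun z hz => subset_adjoin K _ hz)
  obtain ⟨c, hc, hsm⟩ := exists_formallySmooth_aux (K := K) (t₀.image ι)
  refine ⟨c, hc, _, ?_, hsm⟩
  rw [adjoin_adjoin_left, adjoin_union, adjoin_union, hrange]

end Groth.Agent.RegLocLib
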