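import Mathlib
import Groth.Agent.RegLocLib.Crit
import Groth.Agent.RegLocLib.PInsep
import Groth.Agent.HensShrink.Basic

set_option autoImplicit false

/-!
Generic regularity in finite type algebras.
-/

universe u

namespace Groth.Agent.RegLocLib

open PrimeSpectrum

theorem exists_ne_zero_of_open {D : Type u} [CommRing D] [IsDomain D] {U : Set (PrimeSpectrum D)}
    (hU : IsOpen U) (hne : U.Nonempty) :
    ∃ f : D, f ≠ 0 ∧ ∀ Q : PrimeSpectrum D, f ∉ Q.asIdeal → Q ∈ U := by
  obtain ⟨Q₀, hQ₀⟩ := hne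
  obtain ⟨_, ⟨g, rfl⟩, hg, hgU⟩ :=
    isTopologicalBasis_basic_opens.exists_subset_of_mem_open hQ₀ hU
  exact ⟨g, fun h => hg (h ▸ zero_mem _), fun Q hQ => hgU hQ⟩

theorem nonempty_basicOpen {D : Type u} [CommRing D] [IsDomain D] {f : D} (hf : f ≠ 0) :
    (basicOpen f : Set (PrimeSpectrum D)).Nonempty :=
  ⟨⟨⊥, Ideal.isPrime_bot⟩, fun h => hf (by simpa using h)⟩

theorem exists_open_of_smoothAt {A B : Type u} [CommRing A] [CommRing B] [IsDomain A] [IsDomain B]
    [IsNoetherianRing A] [Algebra A B] [Algebra.FiniteType A B]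
    (hinj : Function.Injective (algebraMap A B)) [(⊥ : Ideal B).IsPrime]
    [Algebra.IsSmoothAt A (⊥ : Ideal B)]
    (h : ∃ U : Set (PrimeSpectrum A), IsOpen U ∧ U.Nonempty ∧ U ⊆ EGA4.regLocus A) :
    ∃ U : Set (PrimeSpectrum B), IsOpen U ∧ U.Nonempty ∧ U ⊆ EGA4.regLocus B := by
  obtain ⟨U, hU, hne, hsub⟩ := h
  obtain ⟨f, hf, hfU⟩ := exists_ne_zero_of_open hU hne
  haveI : Algebra.FinitePresentation A B := Algebra.FinitePresentation.of_finiteType.1 inferInstance
  obtain ⟨g, hg, hsm⟩ := Algebra.IsSmoothAt.exists_notMem_smooth A (⊥ : Ideal B)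
  have hgs := (Algebra.basicOpen_subset_smoothLocus_iff_smooth (R := A) (f := g)).2 hsm
  refine ⟨basicOpen (g * algebraMap A B f), (basicOpen _).2, nonempty_basicOpen
    (mul_ne_zero (by simpa using hg) ((map_ne_zero_iff _ hinj).2 hf)), fun Q hQ => ?_⟩
  have hQ' : g * algebraMap A B f ∉ Q.asIdeal := hQ
  haveI : Algebra.IsSmoothAt A Q.asIdeal :=
    hgs (show g ∉ Q.asIdeal from fun h => hQ' (Q.asIdeal.mul_mem_right _ h))
  exact mem_regLocus_of_smoothAt Q
    (hsub (hfU _ fun h => hQ' (Q.asIdeal.mul_mem_left g h)))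

theorem flat_atPrime_bot {R S : Type u} [CommRing R] [CommRing S] [IsDomain R] [IsDomain S]
    [Algebra R S] (hinj : Function.Injective (algebraMap R S)) :
    Module.Flat R (Localization.AtPrime (⊥ : Ideal S)) := by
  let K := FractionRing R
  let L := Localization.AtPrime (⊥ : Ideal S)
  haveI : IsFractionRing S L := by
    show IsLocalization (nonZeroDivisors S) L
    rw [← Ideal.primeCompl_bot]
    infer_instance
  letI : Field L := IsFractionRing.toField S
  have hinjL : Function.Injective (algebraMap R L) := by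
    rw [IsScalarTower.algebraMap_eq R S L, RingHom.coe_comp]
    exact (IsFractionRing.injective S L).comp hinj
  letI : Algebra K L := (IsFractionRing.lift hinjL).toAlgebra
  haveI : IsScalarTower R K L := .of_algebraMap_eq fun r => (IsFractionRing.lift_algebraMap hinjL r).symm
  haveI : Module.Flat R K := IsLocalization.flat K (nonZeroDivisors R)
  exact Module.Flat.trans R K L

theorem exists_open_of_subring {R S : Type u} [CommRing R] [CommRing S] [IsDomain R] [IsDomain S]
    [IsNoetherianRing R] [Algebra R S] [Algebra.FiniteType R S]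
    (hinj : Function.Injective (algebraMap R S))
    (hS : ∃ U : Set (PrimeSpectrum S), IsOpen U ∧ U.Nonempty ∧ U ⊆ EGA4.regLocus S) :
    ∃ U : Set (PrimeSpectrum R), IsOpen U ∧ U.Nonempty ∧ U ⊆ EGA4.regLocus R := by
  obtain ⟨U, hU, hne, hsub⟩ := hS
  obtain ⟨g, hg, hgU⟩ := exists_ne_zero_of_open hU hne
  haveI : Algebra.FinitePresentation R S := Algebra.FinitePresentation.of_finiteType.1 inferInstance
  have hbot : (⟨⊥, Ideal.isPrime_bot⟩ : PrimeSpectrum S) ∈
      {p : PrimeSpectrum S | Module.Flat R (Localization.AtPrime p.asIdeal)} := flat_atPrime_bot hinj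
  obtain ⟨b, hb, hbflat⟩ := exists_ne_zero_of_open
    (HensShrink.isOpen_flatLocus (A := R) (R := S)) ⟨_, hbot⟩
  let T := Localization.Away (b * g)
  haveI : Module.Flat R T :=
    HensShrink.flat_away fun p hp => hbflat p fun h => hp (p.asIdeal.mul_mem_right g h)
  haveI : Algebra.FinitePresentation S T := IsLocalization.Away.finitePresentation (b * g)
  haveI : Algebra.FinitePresentation R T := Algebra.FinitePresentation.trans R S T
  haveI : IsDomain T := IsLocalization.isDomain_localization
    (powers_le_nonZeroDivisors_of_noZeroDivisors (mul_ne_zero hb hg))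
  refine ⟨Set.range (comap (algebraMap R T)), ?_, Set.range_nonempty _, ?_⟩
  · rw [← Set.image_univ]
    exact isOpenMap_comap_of_hasGoingDown_of_finitePresentation (R := R) (S := T) _ isOpen_univ
  · rintro _ ⟨q, rfl⟩
    refine mem_regLocus_of_flat q ?_
    rw [mem_regLocus_iff_of_isLocalization (Submonoid.powers (b * g)) q]
    refine hsub (hgU _ fun h => ?_)
    refine q.isPrime.ne_top (Ideal.eq_top_of_isUnit_mem _
      (show algebraMap S T (b * g) ∈ q.asIdeal from ?_) (IsLocalization.Away.algebraMap_isUnit _))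
    rw [map_mul]
    exact q.asIdeal.mul_mem_left _ h

theorem exists_fraction {A K Ω : Type u} [CommRing A] [Field K] [Field Ω]
    [Algebra A K] [IsFractionRing A K] [Algebra A Ω] [Algebra K Ω] [IsScalarTower A K Ω]
    (S : Subring Ω) (hA : ∀ a, algebraMap A Ω a ∈ S) (G : Set Ω)
    (hG : ∀ x ∈ G, ∃ a ∈ S, ∃ b ∈ S, b ≠ 0 ∧ x * b = a)
    {x : Ω} (hx : x ∈ IntermediateField.adjoin K G) : ∃ a ∈ S, ∃ b ∈ S, b ≠ 0 ∧ x * b = a := by
  induction hx using IntermediateField.adjoin_induction with
  | mem y hy => exact hG y hy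
  | algebraMap k =>
    obtain ⟨a, s, rfl⟩ := IsLocalization.exists_mk'_eq (nonZeroDivisors A) k
    refine ⟨_, hA a, _, hA s, ?_, ?_⟩
    · rw [IsScalarTower.algebraMap_apply A K Ω]
      exact (map_ne_zero _).2 (IsLocalization.map_units K s).ne_zero
    · rw [IsScalarTower.algebraMap_apply A K Ω, IsScalarTower.algebraMap_apply A K Ω a, ← map_mul,
        IsLocalization.mk'_spec]
  | add y z _ _ h1 h2 =>
    obtain ⟨a, ha, b, hb, hb0, hab⟩ := h1
    obtain ⟨c, hc, d, hd, hd0, hcd⟩ := h2
    exact ⟨a * d + c * b, add_mem (mul_mem ha hd) (mul_mem hc hb), b * d, mul_mem hb hd,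
      mul_ne_zero hb0 hd0, by rw [← hab, ← hcd]; ring⟩
  | inv y _ h1 =>
    obtain ⟨a, ha, b, hb, hb0, hab⟩ := h1
    by_cases hy : y = 0
    · exact ⟨0, zero_mem _, 1, one_mem _, one_ne_zero, by simp [hy]⟩
    · exact ⟨b, hb, a, ha, hab ▸ mul_ne_zero hy hb0, by rw [← hab]; field_simp⟩
  | mul y z _ _ h1 h2 =>
    obtain ⟨a, ha, b, hb, hb0, hab⟩ := h1
    obtain ⟨c, hc, d, hd, hd0, hcd⟩ := h2
    exact ⟨a * c, mul_mem ha hc, b * d, mul_mem hb hd, mul_ne_zero hb0 hd0,
      by rw [← hab, ← hcd]; ring⟩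

theorem isFractionRing_of_forall {S Ω : Type u} [CommRing S] [IsDomain S] [Field Ω]
    [Algebra S Ω] (hinj : Function.Injective (algebraMap S Ω))
    (h : ∀ x : Ω, ∃ a b : S, b ≠ 0 ∧ x * algebraMap S Ω b = algebraMap S Ω a) :
    IsFractionRing S Ω where
  map_units s := isUnit_iff_ne_zero.2 fun h0 => nonZeroDivisors.ne_zero s.2
    (hinj (h0.trans (map_zero _).symm))
  surj x := by
    obtain ⟨a, b, hb, hab⟩ := h x
    exact ⟨(a, ⟨b, mem_nonZeroDivisors_of_ne_zero hb⟩), hab⟩
  exists_of_eq := fun h => ⟨1, by rw [hinj h]⟩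

theorem isSmoothAt_bot_of_formallySmooth {A B L : Type u} [CommRing A] [CommRing B] [IsDomain B]
    [Algebra A B] [CommRing L] [Algebra B L] [IsFractionRing B L] [Algebra A L] [IsScalarTower A B L]
    [Algebra.FormallySmooth A L] [(⊥ : Ideal B).IsPrime] :
    Algebra.IsSmoothAt A (⊥ : Ideal B) := by
  haveI : IsLocalization.AtPrime L (⊥ : Ideal B) := by
    show IsLocalization (⊥ : Ideal B).primeCompl L
    rw [Ideal.primeCompl_bot]
    infer_instance
  exact Algebra.FormallySmooth.of_equiv ((IsLocalization.algEquiv (⊥ : Ideal B).primeCompl L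
    (Localization.AtPrime (⊥ : Ideal B))).restrictScalars A)

/-- A generic property ascends along smooth maps of domains. -/
def AscendsSmooth (Pr : ∀ (D : Type u) [CommRing D], Set (PrimeSpectrum D)) : Prop :=
  ∀ (A B : Type u) [CommRing A] [CommRing B] [IsDomain A] [IsDomain B] [IsNoetherianRing A]
    [Algebra A B] [Algebra.FiniteType A B],
    Function.Injective (algebraMap A B) → ∀ [(⊥ : Ideal B).IsPrime]
    [Algebra.IsSmoothAt A (⊥ : Ideal B)],
    (∃ U : Set (PrimeSpectrum A), IsOpen U ∧ U.Nonempty ∧ U ⊆ Pr A) →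
    ∃ U : Set (PrimeSpectrum B), IsOpen U ∧ U.Nonempty ∧ U ⊆ Pr B

/-- A generic property descends along inclusions of finite type of domains. -/
def DescendsInclusion (Pr : ∀ (D : Type u) [CommRing D], Set (PrimeSpectrum D)) : Prop :=
  ∀ (R S : Type u) [CommRing R] [CommRing S] [IsDomain R] [IsDomain S] [IsNoetherianRing R]
    [Algebra R S] [Algebra.FiniteType R S],
    Function.Injective (algebraMap R S) →
    (∃ U : Set (PrimeSpectrum S), IsOpen U ∧ U.Nonempty ∧ U ⊆ Pr S) →
    ∃ U : Set (PrimeSpectrum R), IsOpen U ∧ U.Nonempty ∧ U ⊆ Pr R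

theorem exists_open_aux {A B K L Ω : Type u} [CommRing A] [IsDomain A] [IsNoetherianRing A]
    [CommRing B] [IsDomain B] [Algebra A B] [Algebra.FiniteType A B]
    (hinj : Function.Injective (algebraMap A B))
    [Field K] [Field L] [Field Ω] [Algebra A K] [IsFractionRing A K] [Algebra B L]
    [IsFractionRing B L] [Algebra K L] [Algebra L Ω] [Algebra K Ω] [IsScalarTower K L Ω]
    [Algebra A L] [IsScalarTower A B L] [IsScalarTower A K L]
    [Algebra A Ω] [IsScalarTower A K Ω] [Algebra B Ω] [IsScalarTower B L Ω] [IsScalarTower A B Ω]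
    [PerfectField Ω] [Algebra.EssFiniteType K L]
    (Pr : ∀ (D : Type u) [CommRing D], Set (PrimeSpectrum D))
    (hsm' : AscendsSmooth Pr) (hsub' : DescendsInclusion Pr)
    (h : ∀ (A' : Type u) [CommRing A'] [IsDomain A'] [Algebra A A'], Module.Finite A A' →
        ∃ U : Set (PrimeSpectrum A'), IsOpen U ∧ U.Nonempty ∧ U ⊆ Pr A') :
    ∃ U : Set (PrimeSpectrum B), IsOpen U ∧ U.Nonempty ∧ U ⊆ Pr B := by
  classical
  obtain ⟨c, hc, L', hL', hsm⟩ := exists_formallySmooth_compositum K L Ω
  have hscale : ∀ x : {x // x ∈ c}, ∃ a : nonZeroDivisors A, IsIntegral A (a • x.1) := fun x =>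
    IsIntegral.exists_multiple_integral_of_isLocalization (nonZeroDivisors A) (Rₘ := K) x.1 (hc _ x.2)
  choose a ha using hscale
  let c' : Set Ω := Set.range fun x : {x // x ∈ c} => a x • x.1
  have hc'fin : c'.Finite := Set.finite_range _
  have hc'int : ∀ y ∈ c', IsIntegral A y := by rintro _ ⟨x, rfl⟩; exact ha x
  let A2 : Subalgebra A Ω := Algebra.adjoin A c'
  haveI hA2 : Module.Finite A A2 := Algebra.finite_adjoin_of_finite_of_isIntegral hc'fin hc'int
  haveI : IsNoetherianRing A2 := Algebra.FiniteType.isNoetherianRing A A2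
  let B2 : Subalgebra B Ω := Algebra.adjoin B c'
  haveI hB2 : Module.Finite B B2 :=
    Algebra.finite_adjoin_of_finite_of_isIntegral hc'fin fun y hy => (hc'int y hy).tower_top
  have hAB : A2 ≤ B2.restrictScalars A := Algebra.adjoin_le Algebra.subset_adjoin
  letI : Algebra A2 B2 := (Subalgebra.inclusion hAB).toRingHom.toAlgebra
  haveI : IsScalarTower A A2 B2 := .of_algebraMap_eq fun x => Subtype.ext
    (IsScalarTower.algebraMap_apply A B2 Ω x).symm
  haveI : Algebra.FiniteType A B2 := Algebra.FiniteType.trans (S := B) inferInstance inferInstance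
  haveI : Algebra.FiniteType A2 B2 := Algebra.FiniteType.of_restrictScalars_finiteType A A2 B2
  let K' := IntermediateField.adjoin K (c : Set Ω)
  have hmemc : ∀ x : {x // x ∈ c}, (a x • x.1 : Ω) ∈ c' := fun x => ⟨x, rfl⟩
  have hsmul : ∀ x : {x // x ∈ c}, (a x • x.1 : Ω) = algebraMap A Ω (a x) * x.1 := fun x => by
    rw [Submonoid.smul_def, Algebra.smul_def]
  have hane : ∀ x : {x // x ∈ c}, algebraMap A Ω (a x) ≠ 0 := fun x => by
    rw [IsScalarTower.algebraMap_apply A K Ω]
    exact (map_ne_zero _).2 (IsLocalization.map_units K (a x)).ne_zero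
  have hA2K : ∀ y : A2, (y : Ω) ∈ K' := fun y => by
    have : A2 ≤ (K'.toSubalgebra).restrictScalars A := Algebra.adjoin_le fun z hz => by
      obtain ⟨x, rfl⟩ := hz
      show a x • x.1 ∈ K'
      rw [hsmul, IsScalarTower.algebraMap_apply A K Ω]
      exact mul_mem (IntermediateField.algebraMap_mem _ _) (IntermediateField.subset_adjoin K _ x.2)
    exact this y.2
  letI : Algebra A2 K' := ((A2.val.toRingHom).codRestrict K' hA2K).toAlgebra
  haveI : IsFractionRing A2 K' := by
    refine isFractionRing_of_forall (fun u v huv => Subtype.ext (show (u : Ω) = v from congrArg (fun w : K' => (w : Ω)) huv)) fun z => ?_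
    obtain ⟨u, hu, v, hv, hv0, huv⟩ := exists_fraction A2.toSubring (fun x => A2.algebraMap_mem x)
      (c : Set Ω) (fun x hx => ⟨_, Algebra.subset_adjoin (hmemc ⟨x, hx⟩), _, A2.algebraMap_mem _,
        hane ⟨x, hx⟩, by rw [hsmul, mul_comm]⟩) z.2
    exact ⟨⟨u, hu⟩, ⟨v, hv⟩, fun h => hv0 (congrArg Subtype.val h), Subtype.ext huv⟩
  have hB2L : ∀ y : B2, (y : Ω) ∈ L' := fun y => by
    let F : IntermediateField K Ω := L'.restrictScalars K
    have hle : (y : Ω) ∈ F := by
      rw [show F = _ from hL']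
      refine Algebra.adjoin_induction (R := B) (fun z hz => ?_) (fun b => ?_)
        (fun u v _ _ hu hv => add_mem hu hv) (fun u v _ _ hu hv => mul_mem hu hv) y.2
      · obtain ⟨x, rfl⟩ := hz
        show a x • x.1 ∈ _
        rw [hsmul, IsScalarTower.algebraMap_apply A K Ω]
        exact mul_mem (IntermediateField.algebraMap_mem _ _)
          (IntermediateField.subset_adjoin K _ (Or.inl x.2))
      · rw [IsScalarTower.algebraMap_apply B L Ω]
        exact IntermediateField.subset_adjoin K _ (Or.inr ⟨_, rfl⟩)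
    exact hle
  letI : Algebra B2 L' := ((B2.val.toRingHom).codRestrict L' hB2L).toAlgebra
  haveI : IsFractionRing B2 L' := by
    refine isFractionRing_of_forall (fun u v huv => Subtype.ext (show (u : Ω) = v from congrArg (fun w : L' => (w : Ω)) huv)) fun z => ?_
    have hz : (z : Ω) ∈ IntermediateField.adjoin K ((c : Set Ω) ∪ Set.range (algebraMap L Ω)) := by
      rw [← hL']; exact z.2
    have hG : ∀ x ∈ (c : Set Ω) ∪ Set.range (algebraMap L Ω),
        ∃ u ∈ B2.toSubring, ∃ v ∈ B2.toSubring, v ≠ 0 ∧ x * v = u := by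
      rintro x (hx | ⟨l, rfl⟩)
      · refine ⟨_, Algebra.subset_adjoin (hmemc ⟨x, hx⟩), _, ?_, hane ⟨x, hx⟩, by rw [hsmul, mul_comm]⟩
        rw [IsScalarTower.algebraMap_apply A B Ω]
        exact B2.algebraMap_mem _
      · obtain ⟨u, s, rfl⟩ := IsLocalization.exists_mk'_eq (nonZeroDivisors B) l
        refine ⟨_, B2.algebraMap_mem u, _, B2.algebraMap_mem s, ?_, ?_⟩
        · rw [IsScalarTower.algebraMap_apply B L Ω]
          exact (map_ne_zero _).2 (IsLocalization.map_units L s).ne_zero
        · rw [IsScalarTower.algebraMap_apply B L Ω, IsScalarTower.algebraMap_apply B L Ω u, ← map_mul,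
            IsLocalization.mk'_spec]
    obtain ⟨u, hu, v, hv, hv0, huv⟩ := exists_fraction (A := A) B2.toSubring
      (fun x => by rw [IsScalarTower.algebraMap_apply A B Ω]; exact B2.algebraMap_mem _)
      _ hG hz
    exact ⟨⟨u, hu⟩, ⟨v, hv⟩, fun h => hv0 (congrArg Subtype.val h), Subtype.ext huv⟩
  letI : Algebra A2 L' := ((algebraMap B2 L').comp (algebraMap A2 B2)).toAlgebra
  haveI : IsScalarTower A2 B2 L' := .of_algebraMap_eq fun _ => rfl
  haveI : IsScalarTower A2 K' L' := .of_algebraMap_eq fun _ => rfl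
  haveI := hsm
  haveI : Algebra.FormallySmooth A2 K' :=
    Algebra.FormallySmooth.of_isLocalization (nonZeroDivisors A2)
  haveI : Algebra.FormallySmooth A2 L' := Algebra.FormallySmooth.comp A2 K' L'
  haveI : (⊥ : Ideal B2).IsPrime := Ideal.isPrime_bot
  haveI := isSmoothAt_bot_of_formallySmooth (A := A2) (B := B2) (L := L')
  have hB2open := hsm' A2 B2
    (fun u v huv => Subtype.ext (show (u : Ω) = v from congrArg (fun w : B2 => (w : Ω)) huv)) (h A2 hA2)
  haveI : IsNoetherianRing B := Algebra.FiniteType.isNoetherianRing A B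
  refine hsub' B B2 (fun u v huv => ?_) hB2open
  have := congrArg Subtype.val huv
  change algebraMap B Ω u = algebraMap B Ω v at this
  rw [IsScalarTower.algebraMap_apply B L Ω, IsScalarTower.algebraMap_apply B L Ω] at this
  exact IsFractionRing.injective B L ((algebraMap L Ω).injective this)

/-- The finite domain criterion gives generic properties of all finite type domains. -/
theorem exists_open_of_finiteType' {A B : Type u} [CommRing A] [IsNoetherianRing A] [CommRing B]
    [IsDomain B] [Algebra A B] [Algebra.FiniteType A B]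
    (Pr : ∀ (D : Type u) [CommRing D], Set (PrimeSpectrum D))
    (hsm' : AscendsSmooth Pr) (hsub' : DescendsInclusion Pr)
    (h : ∀ (A' : Type u) [CommRing A'] [IsDomain A'] [Algebra A A'], Module.Finite A A' →
        ∃ U : Set (PrimeSpectrum A'), IsOpen U ∧ U.Nonempty ∧ U ⊆ Pr A') :
    ∃ U : Set (PrimeSpectrum B), IsOpen U ∧ U.Nonempty ∧ U ⊆ Pr B := by
  let p := RingHom.ker (algebraMap A B)
  haveI : p.IsPrime := RingHom.ker_isPrime _
  let A1 := A ⧸ p
  letI : Algebra A1 B := (RingHom.kerLift (algebraMap A B)).toAlgebra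
  haveI : IsScalarTower A A1 B := .of_algebraMap_eq fun _ => rfl
  haveI : Algebra.FiniteType A1 B := Algebra.FiniteType.of_restrictScalars_finiteType A A1 B
  have hinj : Function.Injective (algebraMap A1 B) := RingHom.kerLift_injective _
  let K := FractionRing A1
  let L := FractionRing B
  haveI : FaithfulSMul A1 L := (faithfulSMul_iff_algebraMap_injective A1 L).2 (by
    rw [IsScalarTower.algebraMap_eq A1 B L, RingHom.coe_comp]
    exact (IsFractionRing.injective B L).comp hinj)
  letI : Algebra K L := FractionRing.liftAlgebra A1 L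
  haveI : Algebra.EssFiniteType B L := Algebra.EssFiniteType.of_isLocalization L (nonZeroDivisors B)
  haveI : Algebra.EssFiniteType A1 L := Algebra.EssFiniteType.comp A1 B L
  haveI : Algebra.EssFiniteType K L := Algebra.EssFiniteType.of_comp A1 K L
  exact exists_open_aux (A := A1) (B := B) (K := K) (L := L) (Ω := AlgebraicClosure L) hinj Pr hsm' hsub'
    fun A' _ _ _ hfin => by
      letI : Algebra A A' := ((algebraMap A1 A').comp (Ideal.Quotient.mk p)).toAlgebra
      haveI : IsScalarTower A A1 A' := .of_algebraMap_eq fun _ => rfl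
      exact h A' (Module.Finite.trans A1 A')

/-- The finite domain criterion gives generic regularity of all finite type domains. -/
theorem exists_open_of_finiteType {A B : Type u} [CommRing A] [IsNoetherianRing A] [CommRing B]
    [IsDomain B] [Algebra A B] [Algebra.FiniteType A B]
    (h : ∀ (A' : Type u) [CommRing A'] [IsDomain A'] [Algebra A A'], Module.Finite A A' →
        ∃ U : Set (PrimeSpectrum A'), IsOpen U ∧ U.Nonempty ∧ U ⊆ EGA4.regLocus A') :
    ∃ U : Set (PrimeSpectrum B), IsOpen U ∧ U.Nonempty ∧ U ⊆ EGA4.regLocus B := by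
  exact exists_open_of_finiteType' (fun D _ => EGA4.regLocus D)
    (fun A B _ _ _ _ _ _ _ hinj _ _ h => exists_open_of_smoothAt hinj h)
    (fun R S _ _ _ _ _ _ _ hinj h => exists_open_of_subring hinj h) h

/-- The finite domain criterion for J-2. -/
theorem isJ2_of_finite_domains {A : Type u} [CommRing A] [IsNoetherianRing A]
    (h : ∀ (A' : Type u) [CommRing A'] [IsDomain A'] [Algebra A A'], Module.Finite A A' →
        ∃ U : Set (PrimeSpectrum A'), IsOpen U ∧ U.Nonempty ∧ U ⊆ EGA4.regLocus A') :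
    EGA4.IsJ2 A := by
  intro S _ _ hS
  haveI := hS
  haveI : IsNoetherianRing S := Algebra.FiniteType.isNoetherianRing A S
  refine isOpen_regLocus_of_quotients fun p _ => ?_
  haveI : Algebra.FiniteType A (S ⧸ p.asIdeal) :=
    Algebra.FiniteType.of_surjective (Ideal.Quotient.mkₐ A p.asIdeal) Ideal.Quotient.mk_surjective
  exact exists_open_of_finiteType h

end Groth.Agent.RegLocLib
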