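import Mathlib
import Groth.Agent.RegLocLib.Generic

set_option autoImplicit false

/-!
One dimensional base rings, equivalences, and the conditions `(R_k)`.
-/

universe u

namespace Groth.Agent.RegLocLib

open PrimeSpectrum

theorem isMaximal_of_ne_bot {A B : Type u} [CommRing A] [CommRing B] [IsDomain B] [Algebra A B]
    [Algebra.IsIntegral A B] (hdim : ringKrullDim A ≤ 1) (Q : Ideal B) [Q.IsPrime] (hQ : Q ≠ ⊥) :
    Q.IsMaximal := by
  haveI : Ring.KrullDimLE 1 A := Ring.krullDimLE_iff.2 hdim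
  haveI : (⊥ : Ideal B).IsPrime := Ideal.isPrime_bot
  have hlt : (⊥ : Ideal B).comap (algebraMap A B) < Q.comap (algebraMap A B) :=
    Ideal.IsIntegral.comap_lt_comap (bot_lt_iff_ne_bot.2 hQ)
  refine Ideal.isMaximal_of_isIntegral_of_isMaximal_comap (R := A) Q ?_
  rcases Ring.krullDimLE_one_iff.1 ‹Ring.KrullDimLE 1 A› (Q.comap (algebraMap A B)) inferInstance with h | h
  · exact absurd (h.2 ⟨inferInstance, bot_le⟩ hlt.le) hlt.not_ge
  · exact h

theorem finite_setOf_isMaximal {A B : Type u} [CommRing A] [CommRing B] [Algebra A B] [Module.Finite A B]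
    (h : {I : Ideal A | I.IsMaximal}.Finite) : {I : Ideal B | I.IsMaximal}.Finite := by
  refine (h.biUnion fun m _ => Algebra.QuasiFinite.finite_primesOver (R := A) (S := B) m).subset ?_
  intro M hM
  haveI : M.IsMaximal := hM
  exact Set.mem_biUnion (Ideal.isMaximal_comap_of_isIntegral_of_isMaximal (R := A) M)
    ⟨hM.isPrime, ⟨rfl⟩⟩

theorem isOpen_bot {D : Type u} [CommRing D] [IsDomain D]
    (hmax : ∀ Q : Ideal D, Q.IsPrime → Q ≠ ⊥ → Q.IsMaximal)
    (hfin : {I : Ideal D | I.IsMaximal}.Finite) :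
    IsOpen {p : PrimeSpectrum D | p.asIdeal = ⊥} := by
  by_cases hF : (⊥ : Ideal D).IsMaximal
  · convert isOpen_univ
    exact Set.eq_univ_of_forall fun p => (hF.eq_of_le p.isPrime.ne_top bot_le).symm
  rw [← isClosed_compl_iff]
  have : {p : PrimeSpectrum D | p.asIdeal = ⊥}ᶜ =
      ⋃ m ∈ {I : Ideal D | I.IsMaximal}, zeroLocus (m : Set D) := by
    ext p
    simp only [Set.mem_compl_iff, Set.mem_setOf_eq, Set.mem_iUnion, mem_zeroLocus, SetLike.coe_subset_coe]
    refine ⟨fun hp => ⟨p.asIdeal, hmax _ p.isPrime hp, le_rfl⟩, ?_⟩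
    rintro ⟨m, hm, hmp⟩ hp
    exact hF (le_antisymm (hp ▸ hmp) bot_le ▸ hm)
  rw [this]
  exact hfin.isClosed_biUnion fun m _ => isClosed_zeroLocus _

theorem exists_open_of_equiv {R S : Type u} [CommRing R] [CommRing S] [IsDomain R] [IsDomain S]
    [IsNoetherianRing R] (e : R ≃+* S)
    (h : ∃ U : Set (PrimeSpectrum S), IsOpen U ∧ U.Nonempty ∧ U ⊆ EGA4.regLocus S) :
    ∃ U : Set (PrimeSpectrum R), IsOpen U ∧ U.Nonempty ∧ U ⊆ EGA4.regLocus R := by
  letI : Algebra R S := e.toRingHom.toAlgebra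
  haveI : Algebra.FiniteType R S :=
    Algebra.FiniteType.of_surjective (Algebra.ofId R S) fun s => ⟨e.symm s, e.apply_symm_apply s⟩
  exact exists_open_of_subring (R := R) (S := S) e.injective h

theorem hasRkAt_iff {A : Type u} [CommRing A] (n : ℕ) (p : PrimeSpectrum A) :
    EGA4.HasRkAt n A p.asIdeal ↔
      ∀ q : PrimeSpectrum A, q.asIdeal ≤ p.asIdeal → q.asIdeal.height ≤ n → q ∈ EGA4.regLocus A := by
  constructor
  · intro h q hqp hn
    have hd : Disjoint (p.asIdeal.primeCompl : Set A) (q.asIdeal : Set A) :=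
      Set.disjoint_left.2 fun x hx hxq => hx (hqp hxq)
    let Q : PrimeSpectrum (Localization.AtPrime p.asIdeal) :=
      ⟨q.asIdeal.map (algebraMap A _), IsLocalization.isPrime_of_isPrime_disjoint p.asIdeal.primeCompl
        (Localization.AtPrime p.asIdeal) q.asIdeal q.isPrime hd⟩
    have hQ : PrimeSpectrum.comap (algebraMap A (Localization.AtPrime p.asIdeal)) Q = q :=
      PrimeSpectrum.ext (IsLocalization.under_map_of_isPrime_disjoint p.asIdeal.primeCompl
        (Localization.AtPrime p.asIdeal) q.isPrime hd)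
    rw [← hQ, ← mem_regLocus_iff_of_isLocalization p.asIdeal.primeCompl Q]
    haveI : Q.asIdeal.IsPrime := Q.isPrime
    refine h Q.asIdeal ?_
    rw [show Q.asIdeal.height = q.asIdeal.height from
      IsLocalization.height_map_of_disjoint p.asIdeal.primeCompl q.asIdeal hd]
    exact hn
  · intro h Q _ hQn
    have hle : Q.comap (algebraMap A (Localization.AtPrime p.asIdeal)) ≤ p.asIdeal := fun x hx => by
      by_contra hxp
      exact Ideal.IsPrime.ne_top' (Ideal.eq_top_of_isUnit_mem Q hx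
        (IsLocalization.map_units _ (⟨x, hxp⟩ : p.asIdeal.primeCompl)))
    refine (mem_regLocus_iff_of_isLocalization p.asIdeal.primeCompl
      (⟨Q, inferInstance⟩ : PrimeSpectrum (Localization.AtPrime p.asIdeal))).2 (h _ hle ?_)
    show (Q.comap (algebraMap A (Localization.AtPrime p.asIdeal))).height ≤ n
    rw [show Q.comap (algebraMap A (Localization.AtPrime p.asIdeal)) = Q.under A from rfl,
      IsLocalization.height_under p.asIdeal.primeCompl]
    exact hQn

theorem isOpen_hasRkAt {A : Type u} [CommRing A] [IsNoetherianRing A]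
    (h : IsOpen (EGA4.regLocus A)) (n : ℕ) :
    IsOpen {p : PrimeSpectrum A | EGA4.HasRkAt n A p.asIdeal} := by
  obtain ⟨J, hJ⟩ := (isClosed_iff_zeroLocus_ideal _).1 h.isClosed_compl
  rw [← isClosed_compl_iff]
  have : {p : PrimeSpectrum A | EGA4.HasRkAt n A p.asIdeal}ᶜ =
      ⋃ η ∈ {η ∈ J.minimalPrimes | η.height ≤ n}, zeroLocus (η : Set A) := by
    ext p
    simp only [Set.mem_compl_iff, Set.mem_setOf_eq, hasRkAt_iff, not_forall, Set.mem_iUnion,
      mem_zeroLocus, SetLike.coe_subset_coe]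
    constructor
    · rintro ⟨q, hqp, hn, hq⟩
      have hJq : J ≤ q.asIdeal := by
        have : q ∈ zeroLocus (J : Set A) := hJ ▸ hq
        exact this
      obtain ⟨η, hη, hηq⟩ := Ideal.exists_minimalPrimes_le hJq
      exact ⟨η, ⟨hη, (Ideal.height_mono hηq).trans hn⟩, hηq.trans hqp⟩
    · rintro ⟨η, ⟨hη, hn⟩, hηp⟩
      refine ⟨⟨η, hη.1.1⟩, hηp, hn, ?_⟩
      have : (⟨η, hη.1.1⟩ : PrimeSpectrum A) ∈ (EGA4.regLocus A)ᶜ := by rw [hJ]; exact hη.1.2
      exact this
  rw [this]
  exact ((J.finite_minimalPrimes_of_isNoetherianRing A).subset fun η hη => hη.1).isClosed_biUnion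
    fun η _ => isClosed_zeroLocus _

theorem isOpen_hasRkAt_zero {A : Type u} [CommRing A] [IsNoetherianRing A] :
    IsOpen {p : PrimeSpectrum A | EGA4.HasRkAt 0 A p.asIdeal} := by
  rw [← isClosed_compl_iff]
  have : {p : PrimeSpectrum A | EGA4.HasRkAt 0 A p.asIdeal}ᶜ =
      ⋃ η ∈ {η : PrimeSpectrum A | η.asIdeal ∈ minimalPrimes A ∧ η ∉ EGA4.regLocus A},
        zeroLocus (η.asIdeal : Set A) := by
    ext p
    simp only [Set.mem_compl_iff, Set.mem_setOf_eq, hasRkAt_iff, not_forall, Set.mem_iUnion,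
      mem_zeroLocus, SetLike.coe_subset_coe]
    constructor
    · rintro ⟨q, hqp, hn, hq⟩
      refine ⟨q, ⟨?_, hq⟩, hqp⟩
      exact Ideal.height_eq_zero_iff.1 (le_antisymm (by simpa using hn) bot_le)
    · rintro ⟨η, ⟨hη, hreg⟩, hηp⟩
      refine ⟨η, hηp, ?_, hreg⟩
      rw [(Ideal.height_eq_zero_iff).2 hη]; simp
  rw [this]
  refine Set.Finite.isClosed_biUnion ?_ fun η _ => isClosed_zeroLocus _
  exact ((minimalPrimes.finite_of_isNoetherianRing A).preimage
    (f := fun η : PrimeSpectrum A => η.asIdeal)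
    fun a _ b _ hab => PrimeSpectrum.ext hab).subset fun η hη => hη.1

end Groth.Agent.RegLocLib
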