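import Mathlib
import Groth.Agent.RegLocLib.Dim1
import Groth.Agent.PurityLib.Normal

set_option autoImplicit false

/-!
The normal locus.
-/

universe u

namespace Groth.Agent.RegLocLib

open PrimeSpectrum nonZeroDivisors

theorem isNormalDomain_of_ringEquiv {R S : Type u} [CommRing R] [CommRing S] (e : R ≃+* S)
    (h : IsDomain R ∧ IsIntegrallyClosed R) : IsDomain S ∧ IsIntegrallyClosed S :=
  ⟨haveI := h.1; e.symm.toMulEquiv.isDomain, haveI := h.2; IsIntegrallyClosed.of_equiv e⟩

variable {R : Type u} [CommRing R]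

theorem mem_norLocus_iff_of_isLocalization {S : Type u} [CommRing S] [Algebra R S] (M : Submonoid R)
    [IsLocalization M S] (Q : PrimeSpectrum S) :
    Q ∈ EGA4.norLocus S ↔ PrimeSpectrum.comap (algebraMap R S) Q ∈ EGA4.norLocus R := by
  haveI : IsLocalization.AtPrime (Localization.AtPrime Q.asIdeal)
      (Q.asIdeal.comap (algebraMap R S)) :=
    IsLocalization.isLocalization_isLocalization_atPrime_isLocalization M
      (Localization.AtPrime Q.asIdeal) Q.asIdeal
  let e := (IsLocalization.algEquiv (Q.asIdeal.comap (algebraMap R S)).primeCompl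
    (Localization.AtPrime Q.asIdeal)
    (Localization.AtPrime (Q.asIdeal.comap (algebraMap R S)))).toRingEquiv
  exact ⟨fun h => isNormalDomain_of_ringEquiv e h, fun h => isNormalDomain_of_ringEquiv e.symm h⟩

theorem mem_norLocus_of_le {p q : PrimeSpectrum R} (h : q.asIdeal ≤ p.asIdeal)
    (hp : p ∈ EGA4.norLocus R) : q ∈ EGA4.norLocus R := by
  obtain ⟨hdom, hcl⟩ := hp
  have hd : Disjoint (p.asIdeal.primeCompl : Set R) (q.asIdeal : Set R) :=
    Set.disjoint_left.2 fun x hx hxq => hx (h hxq)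
  let Q : PrimeSpectrum (Localization.AtPrime p.asIdeal) :=
    ⟨q.asIdeal.map (algebraMap R _), IsLocalization.isPrime_of_isPrime_disjoint p.asIdeal.primeCompl
      (Localization.AtPrime p.asIdeal) q.asIdeal q.isPrime hd⟩
  have hQ : PrimeSpectrum.comap (algebraMap R (Localization.AtPrime p.asIdeal)) Q = q :=
    PrimeSpectrum.ext (IsLocalization.under_map_of_isPrime_disjoint p.asIdeal.primeCompl
      (Localization.AtPrime p.asIdeal) q.isPrime hd)
  rw [← hQ, ← mem_norLocus_iff_of_isLocalization p.asIdeal.primeCompl Q]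
  haveI : Q.asIdeal.IsPrime := Q.isPrime
  exact ⟨IsLocalization.isDomain_localization (Ideal.primeCompl_le_nonZeroDivisors _),
    isIntegrallyClosed_of_isLocalization _ Q.asIdeal.primeCompl (Ideal.primeCompl_le_nonZeroDivisors _)⟩

theorem regLocus_subset_norLocus : EGA4.regLocus R ⊆ EGA4.norLocus R := fun p hp => by
  haveI : IsRegularLocalRing (Localization.AtPrime p.asIdeal) := hp
  exact PurityLib.isIntegrallyClosed_of_regular _

theorem mem_regLocus_of_minimal {p : PrimeSpectrum R} (hmin : p.asIdeal ∈ minimalPrimes R)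
    (hp : p ∈ EGA4.norLocus R) : p ∈ EGA4.regLocus R := by
  haveI := hp.1
  have h : IsField (Localization.AtPrime p.asIdeal) := by
    rw [IsLocalRing.isField_iff_maximalIdeal_eq]
    have h0 : (IsLocalRing.maximalIdeal (Localization.AtPrime p.asIdeal)).height = 0 := by
      rw [← IsLocalization.height_under p.asIdeal.primeCompl,
        IsLocalization.AtPrime.under_maximalIdeal _ p.asIdeal]
      exact Ideal.height_eq_zero_iff.2 hmin
    exact Ideal.height_eq_zero_iff_eq_bot.1 h0
  letI := h.toField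
  show IsRegularLocalRing (Localization.AtPrime p.asIdeal)
  infer_instance

/-- Associated primes of principal ideals transfer between the elements they contain. -/
theorem mem_associatedPrimes_of_mem {D : Type u} [CommRing D] [IsDomain D] [IsNoetherianRing D]
    {b f : D} (hb : b ≠ 0) (hf : f ≠ 0) {P : Ideal D}
    (hP : P ∈ associatedPrimes D (D ⧸ Ideal.span {b})) (hfP : f ∈ P) :
    P ∈ associatedPrimes D (D ⧸ Ideal.span {f}) := by
  obtain ⟨hprime, c, hc⟩ := isAssociatedPrime_iff.1 hP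
  obtain ⟨c, rfl⟩ := Ideal.Quotient.mk_surjective c
  have hmem : ∀ (g : D) (x t : D), t ∈ Submodule.colon (⊥ : Submodule D (D ⧸ Ideal.span {g})) {Ideal.Quotient.mk _ x} ↔
      ∃ d, t * x = g * d := fun g x t => by
    rw [Submodule.mem_colon_singleton, Submodule.mem_bot, Algebra.smul_def, Ideal.Quotient.algebraMap_eq,
      ← map_mul, Ideal.Quotient.eq_zero_iff_mem, Ideal.mem_span_singleton]
    rfl
  obtain ⟨e, he⟩ := (hmem b c f).1 (hc ▸ hfP)
  refine isAssociatedPrime_iff.2 ⟨hprime, Ideal.Quotient.mk _ e, Ideal.ext fun t => ?_⟩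
  rw [hmem, hc, hmem]
  constructor
  · rintro ⟨d, hd⟩
    exact ⟨d, mul_left_cancel₀ hb (by rw [← mul_left_comm, ← he, mul_left_comm, hd, mul_left_comm])⟩
  · rintro ⟨d, hd⟩
    exact ⟨d, mul_left_cancel₀ hf (by rw [← mul_left_comm, he, mul_left_comm, hd, mul_left_comm])⟩

/-- Being integrally closed, in terms of denominators. -/
theorem isIntegrallyClosed_iff_denominators {D S K : Type u} [CommRing D] [CommRing S] [Field K]
    [Algebra D S] [Algebra D K] [Algebra S K] [IsScalarTower D S K] (M : Submonoid D)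
    [IsLocalization M S] [IsFractionRing S K] (hM : ∀ m : M, algebraMap D K m ≠ 0) :
    IsIntegrallyClosed S ↔
      ∀ y : K, IsIntegral D y → ∃ t ∈ M, ∃ d : D, algebraMap D K t * y = algebraMap D K d := by
  rw [isIntegrallyClosed_iff K]
  constructor
  · intro h y hy
    obtain ⟨z, hz⟩ := h hy.tower_top
    obtain ⟨⟨d, t⟩, hdt⟩ := IsLocalization.surj M z
    refine ⟨t, t.2, d, ?_⟩
    rw [← hz, mul_comm, IsScalarTower.algebraMap_apply D S K, IsScalarTower.algebraMap_apply D S K d,
      ← map_mul, hdt]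
  · intro h x hx
    obtain ⟨s, hs⟩ := IsIntegral.exists_multiple_integral_of_isLocalization M x hx
    obtain ⟨t, ht, d, hd⟩ := h _ hs
    refine ⟨IsLocalization.mk' S d (⟨t, ht⟩ * s), ?_⟩
    rw [Submonoid.smul_def, Algebra.smul_def, ← mul_assoc, ← map_mul] at hd
    refine mul_left_cancel₀ (hM (⟨t, ht⟩ * s)) ?_
    rw [Submonoid.coe_mul, hd, IsScalarTower.algebraMap_apply D S K,
      IsScalarTower.algebraMap_apply D S K d, ← map_mul]
    exact congrArg _ (IsLocalization.mk'_spec' S d (⟨t, ht⟩ * s))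

theorem mem_norLocus_iff_denominators {D K : Type u} [CommRing D] [IsDomain D] [Field K]
    [Algebra D K] [IsFractionRing D K] (q : PrimeSpectrum D) :
    q ∈ EGA4.norLocus D ↔
      ∀ y : K, IsIntegral D y → ∃ t ∈ q.asIdeal.primeCompl, ∃ d : D,
        algebraMap D K t * y = algebraMap D K d := by
  let L := Localization.AtPrime q.asIdeal
  letI : Algebra L K := IsLocalization.localizationAlgebraOfSubmonoidLe L K q.asIdeal.primeCompl
    (nonZeroDivisors D) q.asIdeal.primeCompl_le_nonZeroDivisors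
  haveI : IsScalarTower D L K := IsLocalization.localization_isScalarTower_of_submonoid_le L K
    q.asIdeal.primeCompl (nonZeroDivisors D) q.asIdeal.primeCompl_le_nonZeroDivisors
  haveI : IsFractionRing L K :=
    IsFractionRing.isFractionRing_of_isDomain_of_isLocalization q.asIdeal.primeCompl L K
  rw [← isIntegrallyClosed_iff_denominators (S := L) q.asIdeal.primeCompl fun m =>
    IsFractionRing.to_map_ne_zero_of_mem_nonZeroDivisors
      (q.asIdeal.primeCompl_le_nonZeroDivisors m.2)]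
  exact ⟨fun h => h.2, fun h =>
    ⟨IsLocalization.isDomain_localization q.asIdeal.primeCompl_le_nonZeroDivisors, h⟩⟩

/-- A fraction without denominator outside `q` has an associated prime inside `q`. -/
theorem exists_associated_of_no_denominator {D K : Type u} [CommRing D] [IsDomain D]
    [IsNoetherianRing D] [Field K] [Algebra D K] [IsFractionRing D K] (q : Ideal D) (y : K)
    (hy : ∀ t : D, (∃ d : D, algebraMap D K t * y = algebraMap D K d) → t ∈ q) [q.IsPrime] :
    ∃ (P : PrimeSpectrum D) (b : D), b ≠ 0 ∧ P.asIdeal ∈ associatedPrimes D (D ⧸ Ideal.span {b}) ∧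
      P.asIdeal ≤ q ∧ ∀ t : D, (∃ d : D, algebraMap D K t * y = algebraMap D K d) → t ∈ P.asIdeal := by
  obtain ⟨a, b, hb, rfl⟩ := IsFractionRing.div_surjective D y
  have hbK : algebraMap D K b ≠ 0 := IsFractionRing.to_map_ne_zero_of_mem_nonZeroDivisors hb
  let N : Submodule D (D ⧸ Ideal.span {b}) := Submodule.span D {Ideal.Quotient.mk _ a}
  haveI : Module.Finite D N := Module.Finite.iff_fg.2 (Submodule.fg_span_singleton _)
  have hann : ∀ t, t ∈ Module.annihilator D N ↔
      ∃ d : D, algebraMap D K t * (algebraMap D K a / algebraMap D K b) = algebraMap D K d := fun t => by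
    rw [Submodule.mem_annihilator]
    constructor
    · intro h
      have h1 := h _ (Submodule.mem_span_singleton_self _)
      rw [Algebra.smul_def, Ideal.Quotient.algebraMap_eq, ← map_mul, Ideal.Quotient.eq_zero_iff_mem,
        Ideal.mem_span_singleton] at h1
      obtain ⟨d, hd⟩ := h1
      exact ⟨d, by rw [mul_div, ← map_mul, hd, map_mul, mul_div_cancel_left₀ _ hbK]⟩
    · rintro ⟨d, hd⟩ n hn
      obtain ⟨c, rfl⟩ := Submodule.mem_span_singleton.1 hn
      rw [smul_comm, Algebra.smul_def t, Ideal.Quotient.algebraMap_eq, ← map_mul]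
      have : t * a ∈ Ideal.span {b} := Ideal.mem_span_singleton.2 ⟨d, IsFractionRing.injective D K (by
        rw [mul_div, div_eq_iff hbK] at hd
        rw [map_mul, hd, map_mul, mul_comm])⟩
      rw [Ideal.Quotient.eq_zero_iff_mem.2 this, smul_zero]
  obtain ⟨P, hP, hPq⟩ := Ideal.exists_minimalPrimes_le (I := Module.annihilator D N) (J := q)
    fun t ht => hy t ((hann t).1 ht)
  exact ⟨⟨P, hP.1.1⟩, b, nonZeroDivisors.ne_zero hb,
    associatedPrimes.subset_of_injective (f := N.subtype) N.injective_subtype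
      (Module.associatedPrimes.minimalPrimes_annihilator_subset_associatedPrimes D N hP),
    hPq, fun t ht => hP.1.2 ((hann t).2 ht)⟩

/-- Normality at a prime from the primes associated to one element. -/
theorem mem_norLocus_of_associated {D : Type u} [CommRing D] [IsDomain D] [IsNoetherianRing D]
    {f : D} (hf : f ≠ 0) (hD : ∀ q : PrimeSpectrum D, f ∉ q.asIdeal → q ∈ EGA4.norLocus D)
    (q : PrimeSpectrum D)
    (hq : ∀ P : PrimeSpectrum D, P.asIdeal ∈ associatedPrimes D (D ⧸ Ideal.span {f}) →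
      P.asIdeal ≤ q.asIdeal → P ∈ EGA4.norLocus D) : q ∈ EGA4.norLocus D := by
  rw [mem_norLocus_iff_denominators (K := FractionRing D)]
  intro y hy
  by_contra hne
  obtain ⟨P, b, hb, hPass, hPq, hPy⟩ := exists_associated_of_no_denominator q.asIdeal y
    fun t ht => by_contra fun htq => hne ⟨t, htq, ht⟩
  have hPnor : P ∉ EGA4.norLocus D := fun hnor => by
    obtain ⟨t, ht, h⟩ := (mem_norLocus_iff_denominators (K := FractionRing D) P).1 hnor y hy
    exact ht (hPy t h)
  have hfP : f ∈ P.asIdeal := by_contra fun h => hPnor (hD P h)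
  exact hPnor (hq P (mem_associatedPrimes_of_mem hb hf hPass hfP) hPq)

theorem isOpen_norLocus_domain {D : Type u} [CommRing D] [IsDomain D] [IsNoetherianRing D]
    (h : ∃ U : Set (PrimeSpectrum D), IsOpen U ∧ U.Nonempty ∧ U ⊆ EGA4.norLocus D) :
    IsOpen (EGA4.norLocus D) := by
  obtain ⟨U, hU, hne, hsub⟩ := h
  obtain ⟨f, hf, hfU⟩ := exists_ne_zero_of_open hU hne
  rw [← isClosed_compl_iff]
  have : (EGA4.norLocus D)ᶜ = ⋃ P ∈ {P : PrimeSpectrum D |
      P.asIdeal ∈ associatedPrimes D (D ⧸ Ideal.span {f}) ∧ P ∉ EGA4.norLocus D},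
      zeroLocus (P.asIdeal : Set D) := by
    ext q
    simp only [Set.mem_compl_iff, Set.mem_iUnion, Set.mem_setOf_eq, mem_zeroLocus,
      SetLike.coe_subset_coe]
    constructor
    · intro hq
      by_contra hall
      simp only [not_exists, not_and] at hall
      exact hq (mem_norLocus_of_associated hf (fun r hr => hsub (hfU r hr)) q
        fun P hP hPq => by_contra fun hn => hall P ⟨hP, hn⟩ hPq)
    · rintro ⟨P, ⟨-, hn⟩, hPq⟩ hq
      exact hn (mem_norLocus_of_le hPq hq)
  rw [this]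
  exact (((associatedPrimes.finite D _).preimage (f := fun P : PrimeSpectrum D => P.asIdeal)
    fun a _ b _ hab => PrimeSpectrum.ext hab).subset fun P hP => hP.1).isClosed_biUnion
      fun P _ => isClosed_zeroLocus _

theorem exists_isDomain_away [IsNoetherianRing R] (p : PrimeSpectrum R)
    [IsDomain (Localization.AtPrime p.asIdeal)] :
    ∃ g ∉ p.asIdeal, IsDomain (Localization.Away g) := by
  classical
  let η : Ideal R := RingHom.ker (algebraMap R (Localization.AtPrime p.asIdeal))
  haveI hη : η.IsPrime := RingHom.ker_isPrime _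
  have hk : ∀ x ∈ η, ∃ s ∉ p.asIdeal, s * x = 0 := fun x hx => by
    obtain ⟨s, hs⟩ := (IsLocalization.map_eq_zero_iff p.asIdeal.primeCompl _ x).1 hx
    exact ⟨s, s.2, hs⟩
  choose s hs hsx using hk
  obtain ⟨T, hT⟩ := (IsNoetherian.noetherian η : η.FG)
  have hTη : ∀ y ∈ T, y ∈ η := fun y hy => hT ▸ Submodule.subset_span hy
  let g := ∏ y ∈ T.attach, s y.1 (hTη y.1 y.2)
  have hg : g ∉ p.asIdeal := fun hmem => by
    obtain ⟨y, -, hy⟩ := p.isPrime.prod_mem_iff.1 hmem
    exact hs _ _ hy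
  have hkey : ∀ y ∈ η, g * y = 0 := fun y hy => by
    rw [← hT] at hy
    induction hy using Submodule.span_induction with
    | mem z hz =>
      show (∏ y ∈ T.attach, s y.1 (hTη y.1 y.2)) * z = 0
      rw [← Finset.prod_erase_mul T.attach _ (Finset.mem_attach T ⟨z, hz⟩), mul_assoc,
        hsx z (hTη z hz), mul_zero]
    | zero => simp
    | add a b _ _ ha hb => rw [mul_add, ha, hb, add_zero]
    | smul c a _ ha => rw [smul_eq_mul, mul_left_comm, ha, mul_zero]
  have hgη : g ∉ η := fun h => by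
    obtain ⟨s, hs⟩ := (IsLocalization.map_eq_zero_iff p.asIdeal.primeCompl _ g).1 h
    exact (p.isPrime.mem_or_mem (show (s : R) * g ∈ p.asIdeal by rw [hs]; exact zero_mem _)).elim s.2 hg
  refine ⟨g, hg, ?_⟩
  haveI : Nontrivial (Localization.Away g) := by
    refine ⟨⟨0, 1, fun h01 => ?_⟩⟩
    rw [← map_one (algebraMap R (Localization.Away g))] at h01
    obtain ⟨⟨_, k, rfl⟩, hk⟩ := (IsLocalization.map_eq_zero_iff (Submonoid.powers g) _ (1 : R)).1 h01.symm
    rw [mul_one] at hk
    exact hg (p.isPrime.mem_of_pow_mem k (by rw [show g ^ k = 0 from hk]; exact zero_mem _))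
  haveI : NoZeroDivisors (Localization.Away g) := ⟨fun {x y} hxy => by
    obtain ⟨a, u, rfl⟩ := IsLocalization.exists_mk'_eq (Submonoid.powers g) x
    obtain ⟨b, v, rfl⟩ := IsLocalization.exists_mk'_eq (Submonoid.powers g) y
    rw [← IsLocalization.mk'_mul, IsLocalization.mk'_eq_zero_iff] at hxy
    obtain ⟨⟨_, k, rfl⟩, hk⟩ := hxy
    have hmem : a * b ∈ η := (hη.mem_or_mem (show g ^ k * (a * b) ∈ η by rw [hk]; exact zero_mem _)).resolve_left
      fun h => hgη (hη.mem_of_pow_mem k h)
    exact (hη.mem_or_mem hmem).imp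
      (fun h => (IsLocalization.mk'_eq_zero_iff _ _).2 ⟨⟨g, 1, pow_one g⟩, hkey a h⟩)
      (fun h => (IsLocalization.mk'_eq_zero_iff _ _).2 ⟨⟨g, 1, pow_one g⟩, hkey b h⟩)⟩
  exact NoZeroDivisors.to_isDomain _

theorem isOpen_norLocus_of_minimal [IsNoetherianRing R]
    (h : ∀ η : PrimeSpectrum R, η.asIdeal ∈ minimalPrimes R → η ∈ EGA4.norLocus R →
      ∃ U : Set (PrimeSpectrum R), IsOpen U ∧ η ∈ U ∧ U ⊆ EGA4.norLocus R) :
    IsOpen (EGA4.norLocus R) := by
  rw [isOpen_iff_forall_mem_open]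
  intro p hp
  haveI := hp.1
  obtain ⟨g, hg, hdom⟩ := exists_isDomain_away p
  obtain ⟨η, hη, hηp⟩ := Ideal.exists_minimalPrimes_le (I := (⊥ : Ideal R)) (J := p.asIdeal) bot_le
  let P : PrimeSpectrum R := ⟨η, hη.1.1⟩
  obtain ⟨U, hU, hPU, hsub⟩ := h P hη (mem_norLocus_of_le (p := p) hηp hp)
  let T := Localization.Away g
  let c := PrimeSpectrum.comap (algebraMap R T)
  have hgη : P ∈ Set.range c := by
    rw [show Set.range c = (basicOpen g : Set (PrimeSpectrum R)) from localization_away_comap_range T g]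
    exact fun h => hg (hηp h)
  obtain ⟨P', hP'⟩ := hgη
  haveI : IsNoetherianRing T := IsLocalization.isNoetherianRing (Submonoid.powers g) T inferInstance
  have hopen : IsOpen (EGA4.norLocus T) := isOpen_norLocus_domain
    ⟨c ⁻¹' U, hU.preimage (PrimeSpectrum.continuous_comap _), ⟨P', by rw [Set.mem_preimage, hP']; exact hPU⟩,
      fun Q hQ => (mem_norLocus_iff_of_isLocalization (Submonoid.powers g) Q).2 (hsub hQ)⟩
  refine ⟨c '' EGA4.norLocus T, ?_, (localization_away_isOpenEmbedding T g).isOpenMap _ hopen, ?_⟩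
  · rintro _ ⟨Q, hQ, rfl⟩
    exact (mem_norLocus_iff_of_isLocalization (Submonoid.powers g) Q).1 hQ
  · have hpr : p ∈ Set.range c := by
      rw [show Set.range c = (basicOpen g : Set (PrimeSpectrum R)) from localization_away_comap_range T g]
      exact hg
    obtain ⟨Q, hQ⟩ := hpr
    exact ⟨Q, (mem_norLocus_iff_of_isLocalization (Submonoid.powers g) Q).2
      (show c Q ∈ _ from hQ.symm ▸ hp), hQ⟩

theorem isOpen_norLocus_of_isOpen_regLocus [IsNoetherianRing R] (h : IsOpen (EGA4.regLocus R)) :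
    IsOpen (EGA4.norLocus R) :=
  isOpen_norLocus_of_minimal fun _ hmin hnor =>
    ⟨_, h, mem_regLocus_of_minimal hmin hnor, regLocus_subset_norLocus⟩

theorem isOpen_hasRkAt_one [IsNoetherianRing R]
    (h : ∀ η : PrimeSpectrum R, η.asIdeal ∈ minimalPrimes R → η ∈ EGA4.regLocus R →
      ∃ U : Set (PrimeSpectrum R), IsOpen U ∧ η ∈ U ∧
        ∀ q ∈ U, q.asIdeal.height ≤ 1 → q ∈ EGA4.regLocus R) :
    IsOpen {p : PrimeSpectrum R | EGA4.HasRkAt 1 R p.asIdeal} := by
  classical
  let B := {q : PrimeSpectrum R | q.asIdeal.height ≤ 1 ∧ q ∉ EGA4.regLocus R}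
  -- the minimal bad primes are finite in number
  have hJ : ∀ η : PrimeSpectrum R, η.asIdeal ∈ minimalPrimes R → ∃ F : Set (Ideal R), F.Finite ∧
      ∀ q ∈ B, η.asIdeal ≤ q.asIdeal → ∃ η' ∈ F, η' ≤ q.asIdeal ∧
        ∃ hp : η'.IsPrime, (⟨η', hp⟩ : PrimeSpectrum R) ∉ EGA4.regLocus R ∧ η'.height ≤ 1 := by
    intro η hmin
    by_cases hreg : η ∈ EGA4.regLocus R
    · obtain ⟨U, hU, hηU, hUreg⟩ := h η hmin hreg
      obtain ⟨J, hJ⟩ := (isClosed_iff_zeroLocus_ideal _).1 hU.isClosed_compl
      refine ⟨(J ⊔ η.asIdeal).minimalPrimes,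
        (J ⊔ η.asIdeal).finite_minimalPrimes_of_isNoetherianRing R, fun q hq hηq => ?_⟩
      have hqJ : J ≤ q.asIdeal := by
        have : q ∈ Uᶜ := fun hqU => hq.2 (hUreg q hqU hq.1)
        rw [hJ, mem_zeroLocus] at this
        exact this
      refine ⟨q.asIdeal, ⟨⟨q.isPrime, sup_le hqJ hηq⟩, fun r hr hrq => ?_⟩, le_rfl, q.isPrime, hq.2, hq.1⟩
      -- `η < r < q` is impossible in height one
      by_contra hqr
      haveI : r.IsPrime := hr.1
      have hηr : η.asIdeal < r := by
        refine lt_of_le_of_ne (le_sup_right.trans hr.2) fun e => ?_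
        have : η ∈ Uᶜ := by rw [hJ, mem_zeroLocus, SetLike.coe_subset_coe, e]; exact le_sup_left.trans hr.2
        exact this hηU
      have h1 := Ideal.height_add_one_le_of_lt_of_isPrime hηr
      have h2 := Ideal.height_add_one_le_of_lt_of_isPrime (lt_of_le_not_ge hrq hqr)
      rw [Ideal.height_eq_zero_iff.2 hmin, zero_add] at h1
      have h3 : (2 : ℕ∞) ≤ 1 := ((add_le_add h1 le_rfl).trans h2).trans hq.1
      exact absurd h3 (by decide)
    · refine ⟨{η.asIdeal}, Set.finite_singleton _, fun q _ hηq =>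
        ⟨η.asIdeal, rfl, hηq, η.isPrime, hreg, ?_⟩⟩
      rw [Ideal.height_eq_zero_iff.2 hmin]; exact zero_le
  choose F hFfin hF using hJ
  let M := {η : PrimeSpectrum R | η.asIdeal ∈ minimalPrimes R}
  have hM : M.Finite := (minimalPrimes.finite_of_isNoetherianRing R).preimage
    fun a _ b _ hab => PrimeSpectrum.ext hab
  rw [← isClosed_compl_iff]
  have : {p : PrimeSpectrum R | EGA4.HasRkAt 1 R p.asIdeal}ᶜ =
      ⋃ r ∈ {r ∈ ⋃ η : M, F η.1 η.2 | ∃ hp : r.IsPrime,
        (⟨r, hp⟩ : PrimeSpectrum R) ∉ EGA4.regLocus R ∧ r.height ≤ 1}, zeroLocus (r : Set R) := by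
    ext p
    simp only [Set.mem_compl_iff, Set.mem_setOf_eq, hasRkAt_iff, not_forall, Set.mem_iUnion,
      mem_zeroLocus, SetLike.coe_subset_coe]
    constructor
    · rintro ⟨q, hqp, hn, hq⟩
      obtain ⟨η, hη, hηq⟩ := Ideal.exists_minimalPrimes_le (I := (⊥ : Ideal R)) (J := q.asIdeal) bot_le
      obtain ⟨r, hrF, hrq, hr⟩ := hF ⟨η, hη.1.1⟩ hη q ⟨by exact_mod_cast hn, hq⟩ hηq
      exact ⟨r, ⟨⟨⟨⟨η, hη.1.1⟩, hη⟩, hrF⟩, hr⟩, hrq.trans hqp⟩
    · rintro ⟨r, ⟨-, hp, hreg, hht⟩, hrp⟩
      exact ⟨⟨r, hp⟩, hrp, by exact_mod_cast hht, hreg⟩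
  rw [this]
  refine Set.Finite.isClosed_biUnion (Set.Finite.subset ?_ fun r hr => hr.1) fun r _ => isClosed_zeroLocus _
  haveI := hM.to_subtype
  exact Set.finite_iUnion fun η => hFfin η.1 η.2

end Groth.Agent.RegLocLib
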