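import Groth.Agent.RegLocLib.NorLocus

/-!
A reduced Noetherian ring with finite normalization has open normal locus.
-/

set_option autoImplicit false

namespace Groth.Agent.RegLocLib

open PrimeSpectrum

universe u

variable {R : Type u} [CommRing R] [IsNoetherianRing R] [IsReduced R]

theorem eq_zero_of_mem_minimalPrimes {x : R} (h : ∀ η ∈ minimalPrimes R, x ∈ η) : x = 0 := by
  have hx : x ∈ sInf (⊥ : Ideal R).minimalPrimes := by
    rw [Submodule.mem_sInf]
    exact h
  rw [Ideal.sInf_minimalPrimes] at hx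
  obtain ⟨n, hn⟩ := hx
  exact IsNilpotent.eq_zero ⟨n, hn⟩

theorem mem_nonZeroDivisors_of_forall_notMem {x : R} (h : ∀ η ∈ minimalPrimes R, x ∉ η) :
    x ∈ nonZeroDivisors R :=
  mem_nonZeroDivisors_iff_right.2 fun y hy => eq_zero_of_mem_minimalPrimes fun η hη =>
    (hη.1.1.mem_or_mem (show y * x ∈ η from hy ▸ η.zero_mem)).resolve_right (h η hη)

theorem notMem_minimalPrimes_of_mem_nonZeroDivisors {x : R} (hx : x ∈ nonZeroDivisors R)
    {η : Ideal R} (hη : η ∈ minimalPrimes R) : x ∉ η := fun hmem =>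
  Set.disjoint_left.1 (Ideal.disjoint_nonZeroDivisors_of_mem_minimalPrimes hη) hmem hx

/-- Separating one minimal prime from the others. -/
theorem exists_separator {η : Ideal R} (hη : η ∈ minimalPrimes R) :
    ∃ g h : R, g ∉ η ∧ (∀ ρ ∈ minimalPrimes R, ρ ≠ η → g ∈ ρ) ∧ h ∈ η ∧
      (∀ ρ ∈ minimalPrimes R, ρ ≠ η → h ∉ ρ) := by
  classical
  let S := ((⊥ : Ideal R).finite_minimalPrimes_of_isNoetherianRing R).toFinset.erase η
  have hS : ∀ ρ, ρ ∈ S ↔ ρ ≠ η ∧ ρ ∈ minimalPrimes R := fun ρ => by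
    simp [S, minimalPrimes]
  have hg : ∀ ρ ∈ S, ∃ x, x ∈ ρ ∧ x ∉ η := fun ρ hρ => by
    refine SetLike.not_le_iff_exists.1 fun hle => ((hS ρ).1 hρ).1 ?_
    exact le_antisymm hle (hη.2 ⟨((hS ρ).1 hρ).2.1.1, bot_le⟩ hle)
  choose x hxρ hxη using hg
  have hh : ¬((η : Set R) ⊆ ⋃ ρ ∈ (S : Set (Ideal R)), (ρ : Set R)) := fun hsub => by
    obtain ⟨ρ, hρ, hle⟩ := (Ideal.subset_union_prime η η
      (fun ρ hρ _ _ => ((hS ρ).1 hρ).2.1.1)).1 hsub
    exact ((hS ρ).1 hρ).1 (le_antisymm (((hS ρ).1 hρ).2.2 ⟨hη.1.1, bot_le⟩ hle) hle)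
  obtain ⟨h, hhη, hhS⟩ := Set.not_subset.1 hh
  refine ⟨∏ ρ ∈ S.attach, x ρ.1 ρ.2, h, fun hmem => ?_, fun ρ hρ hne => ?_, hhη, fun ρ hρ hne hm => ?_⟩
  · obtain ⟨ρ, -, hρ⟩ := hη.1.1.prod_mem_iff.1 hmem
    exact hxη _ _ hρ
  · exact ρ.mem_of_dvd (Finset.dvd_prod_of_mem (fun ρ : S => x ρ.1 ρ.2)
      (Finset.mem_attach S ⟨ρ, (hS ρ).2 ⟨hne, hρ⟩⟩)) (hxρ ρ _)
  · exact hhS (Set.mem_biUnion (Finset.mem_coe.2 ((hS ρ).2 ⟨hne, hρ⟩)) hm)

theorem exists_conductor (h : Module.Finite R (integralClosure R (FractionRing R))) :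
    ∃ s ∈ nonZeroDivisors R, ∀ y : FractionRing R, IsIntegral R y →
      ∃ d : R, algebraMap R (FractionRing R) s * y = algebraMap R (FractionRing R) d := by
  classical
  obtain ⟨T, hT⟩ := h.fg_top
  obtain ⟨s, hs⟩ := IsLocalization.exist_integer_multiples (nonZeroDivisors R) T
    (fun y => (y : FractionRing R))
  refine ⟨s, s.2, fun y hy => ?_⟩
  have hmem : (⟨y, hy⟩ : integralClosure R (FractionRing R)) ∈ Submodule.span R (T : Set _) := by
    rw [hT]; trivial
  have key : ∀ z : integralClosure R (FractionRing R), z ∈ Submodule.span R (T : Set _) →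
      ∃ d : R, algebraMap R (FractionRing R) s * (z : FractionRing R) =
        algebraMap R (FractionRing R) d := fun z hz => by
    induction hz using Submodule.span_induction with
    | mem z hz =>
      obtain ⟨d, hd⟩ := hs z hz
      exact ⟨d, by rw [hd, Algebra.smul_def]⟩
    | zero => exact ⟨0, by simp⟩
    | add a b _ _ ha hb =>
      obtain ⟨c, hc⟩ := ha
      obtain ⟨d, hd⟩ := hb
      exact ⟨c + d, by rw [Subalgebra.coe_add, mul_add, hc, hd, map_add]⟩
    | smul c a _ ha =>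
      obtain ⟨d, hd⟩ := ha
      exact ⟨c * d, by rw [Subalgebra.coe_smul, Algebra.smul_def, mul_left_comm, hd, map_mul]⟩
  exact key _ hmem

theorem isOpen_norLocus_of_finite_normalization
    (hfin : Module.Finite R (integralClosure R (FractionRing R))) :
    IsOpen (EGA4.norLocus R) := by
  obtain ⟨s, hs, hcond⟩ := exists_conductor hfin
  refine isOpen_norLocus_of_minimal fun P hP _ => ?_
  obtain ⟨g, h, hg, hgo, hh, hho⟩ := exists_separator hP
  have hkill : ∀ x ∈ P.asIdeal, g * x = 0 := fun x hx =>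
    eq_zero_of_mem_minimalPrimes fun ρ hρ => by
      by_cases e : ρ = P.asIdeal
      · exact e ▸ Ideal.mul_mem_left _ g hx
      · exact Ideal.mul_mem_right _ _ (hgo ρ hρ e)
  refine ⟨basicOpen (g * s), (basicOpen (g * s)).isOpen, fun hm => ?_, fun q hq => ?_⟩
  · exact (P.isPrime.mem_or_mem hm).elim hg (notMem_minimalPrimes_of_mem_nonZeroDivisors hs hP)
  have hgq : g ∉ q.asIdeal := fun hm => hq (Ideal.mul_mem_right _ _ hm)
  have hsq : s ∉ q.asIdeal := fun hm => hq (Ideal.mul_mem_left _ _ hm)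
  have hPq : P.asIdeal ≤ q.asIdeal := fun x hx =>
    (q.isPrime.mem_or_mem (show g * x ∈ q.asIdeal by rw [hkill x hx]; exact zero_mem _)).resolve_left hgq
  let L := Localization.AtPrime q.asIdeal
  have hzero : ∀ x : R, algebraMap R L x = 0 ↔ x ∈ P.asIdeal := fun x => by
    rw [IsLocalization.map_eq_zero_iff q.asIdeal.primeCompl L x]
    exact ⟨fun ⟨t, ht⟩ => (P.isPrime.mem_or_mem (show (t : R) * x ∈ P.asIdeal by
        rw [ht]; exact zero_mem _)).resolve_left fun hm => t.2 (hPq hm),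
      fun hx => ⟨⟨g, hgq⟩, hkill x hx⟩⟩
  haveI : NoZeroDivisors L := ⟨fun {x y} hxy => by
    obtain ⟨a, u, rfl⟩ := IsLocalization.exists_mk'_eq q.asIdeal.primeCompl x
    obtain ⟨b, v, rfl⟩ := IsLocalization.exists_mk'_eq q.asIdeal.primeCompl y
    rw [← IsLocalization.mk'_mul] at hxy
    have : algebraMap R L (a * b) = 0 := by
      rw [← IsLocalization.mk'_spec L (a * b) (u * v), hxy, zero_mul]
    refine (P.isPrime.mem_or_mem ((hzero _).1 this)).imp (fun hm => ?_) fun hm => ?_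
    · exact (IsLocalization.mk'_eq_zero_iff _ _).2 ⟨⟨g, hgq⟩, hkill a hm⟩
    · exact (IsLocalization.mk'_eq_zero_iff _ _).2 ⟨⟨g, hgq⟩, hkill b hm⟩⟩
  haveI : IsDomain L := NoZeroDivisors.to_isDomain _
  let K := FractionRing L
  have hne : ∀ {x : R}, x ∉ P.asIdeal → algebraMap R K x ≠ 0 := fun {x} hx => by
    rw [IsScalarTower.algebraMap_apply R L K, ne_eq,
      map_eq_zero_iff _ (IsFractionRing.injective L K), hzero]
    exact hx
  have hz : ∀ {x : R}, x ∈ P.asIdeal → algebraMap R K x = 0 := fun {x} hx => by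
    rw [IsScalarTower.algebraMap_apply R L K, (hzero x).2 hx, map_zero]
  refine ⟨inferInstance, (isIntegrallyClosed_iff_denominators (S := L) (K := K) q.asIdeal.primeCompl
    fun m => hne fun hm => m.2 (hPq hm)).2 fun y hy => ?_⟩
  -- write `y` as a fraction with regular denominator
  obtain ⟨X, Y, hY, hXY⟩ := IsFractionRing.div_surjective L y
  obtain ⟨a, u, rfl⟩ := IsLocalization.exists_mk'_eq q.asIdeal.primeCompl X
  obtain ⟨b, v, rfl⟩ := IsLocalization.exists_mk'_eq q.asIdeal.primeCompl Y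
  have hb : b ∉ P.asIdeal := fun hm => nonZeroDivisors.ne_zero hY
    ((IsLocalization.mk'_eq_zero_iff _ _).2 ⟨⟨g, hgq⟩, hkill b hm⟩)
  have hbu : b * u ∉ P.asIdeal := fun hm =>
    (P.isPrime.mem_or_mem hm).elim hb fun hu => u.2 (hPq hu)
  have hy' : y = algebraMap R K (a * v) / algebraMap R K (b * u) := by
    rw [← hXY, div_eq_div_iff]
    · simp only [map_mul, IsScalarTower.algebraMap_apply R L K]
      rw [← IsLocalization.mk'_spec L a u, ← IsLocalization.mk'_spec L b v, map_mul, map_mul]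
      ring
    · exact IsFractionRing.to_map_ne_zero_of_mem_nonZeroDivisors hY
    · exact hne hbu
  let den := b * u * g + h
  have hden : den ∈ nonZeroDivisors R := mem_nonZeroDivisors_of_forall_notMem fun ρ hρ hm => by
    by_cases e : ρ = P.asIdeal
    · subst e
      exact (P.isPrime.mem_or_mem ((Ideal.add_mem_iff_left _ hh).1 hm)).elim hbu hg
    · exact hho ρ hρ e ((Ideal.add_mem_iff_right _ (Ideal.mul_mem_left _ _ (hgo ρ hρ e))).1 hm)
  let π : FractionRing R →+* K := IsLocalization.lift (M := nonZeroDivisors R)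
    (g := algebraMap R K) fun m =>
      (hne (notMem_minimalPrimes_of_mem_nonZeroDivisors m.2 hP)).isUnit
  have hπ : ∀ x : R, π (algebraMap R _ x) = algebraMap R K x := fun x => IsLocalization.lift_eq _ x
  let Z : FractionRing R := IsLocalization.mk' _ (a * v * g) ⟨den, hden⟩
  have hZ : π Z = y := by
    rw [IsLocalization.lift_mk'_spec, hy', show ((⟨den, hden⟩ : nonZeroDivisors R) : R) = b * u * g + h from rfl,
      map_add, hz hh, add_zero, map_mul _ (b * u), map_mul _ (a * v)]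
    rw [mul_right_comm, mul_div_cancel₀ _ (hne hbu)]
  obtain ⟨p, hp, hpy⟩ := hy
  -- `g • Z` is integral
  have hint : IsIntegral R (algebraMap R (FractionRing R) g * Z) := by
    refine ⟨(p * Polynomial.X).scaleRoots g,
      (Polynomial.monic_scaleRoots_iff g).2 (hp.mul Polynomial.monic_X), ?_⟩
    haveI : Nontrivial R := ⟨g, 0, fun e => hg (e ▸ zero_mem _)⟩
    rw [Polynomial.scaleRoots_eval₂_mul, Polynomial.natDegree_mul_X hp.ne_zero, pow_succ, mul_assoc]
    refine mul_eq_zero_of_right _ ?_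
    set w := Polynomial.eval₂ (algebraMap R (FractionRing R)) Z (p * Polynomial.X) with hw
    have hπw : π w = 0 := by
      rw [hw, Polynomial.hom_eval₂, show π.comp (algebraMap R (FractionRing R)) = algebraMap R K from
        RingHom.ext hπ, hZ, Polynomial.eval₂_mul, hpy, zero_mul]
    obtain ⟨c, m, hcm⟩ := IsLocalization.exists_mk'_eq (nonZeroDivisors R) w
    have hc : c ∈ P.asIdeal := by
      by_contra hc
      apply hne hc
      rw [← hπ, ← IsLocalization.mk'_spec (FractionRing R) c m, map_mul, hcm, hπw, zero_mul]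
    rw [← hcm, IsLocalization.mul_mk'_eq_mk'_of_mul, hkill c hc, IsLocalization.mk'_zero]
  obtain ⟨d, hd⟩ := hcond _ hint
  refine ⟨s * g, fun hm => (q.isPrime.mem_or_mem hm).elim hsq hgq, d, ?_⟩
  rw [← hπ d, ← hd, map_mul π, map_mul π, hπ, hπ, hZ, map_mul, mul_assoc]

end Groth.Agent.RegLocLib
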